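import Mathlib

/-!
# Abelian normal subgroups of point stabilisers: trivial intersections and lines

`Fam G X` is an equivariant family of elementary abelian subgroups `A x` of the point stabilisers
of a two-transitive group, not all semiregular off their centres. Then distinct members intersect
trivially, and the sets `L x y` form a linear space.
-/

set_option autoImplicit false

open MulAction

namespace Cfsg.Agent.ONanElation

/-- An equivariant family of elementary abelian normal subgroups of point stabilisers. -/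
structure Fam (G X : Type*) [Group G] [MulAction G X] where
  /-- The subgroup attached to a point. -/
  A : X → Subgroup G
  /-- The prime exponent. -/
  p : ℕ
  prime : p.Prime
  two : IsMultiplyPretransitive G X 2
  equivar : ∀ (g : G) (x : X), A (g • x) = (A x).map (MulAut.conj g).toMonoidHom
  fix : ∀ x : X, ∀ a ∈ A x, a • x = x
  comm : ∀ x : X, ∀ a ∈ A x, ∀ b ∈ A x, a * b = b * a
  exponent : ∀ x : X, ∀ a ∈ A x, a ^ p = 1
  nsr : ∃ x y : X, x ≠ y ∧ ∃ a ∈ A x, a ≠ 1 ∧ a • y = y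

variable {G X : Type*} [Group G] [MulAction G X] (F : Fam G X)

namespace Fam

include F in
theorem move {a b a' b' : X} (h : a ≠ b) (h' : a' ≠ b') :
    ∃ g : G, g • a = a' ∧ g • b = b' :=
  is_two_pretransitive_iff.1 F.two h h'

theorem conj_mem {g a : G} {x : X} (ha : a ∈ F.A x) : g * a * g⁻¹ ∈ F.A (g • x) := by
  rw [F.equivar]
  exact ⟨a, ha, rfl⟩

theorem conj_mem_of_fix {g a : G} {x : X} (hg : g • x = x) (ha : a ∈ F.A x) :
    g * a * g⁻¹ ∈ F.A x := by
  simpa [hg] using F.conj_mem (g := g) ha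

theorem mem_conj_iff {g a : G} {x : X} : g * a * g⁻¹ ∈ F.A (g • x) ↔ a ∈ F.A x := by
  refine ⟨fun h => ?_, F.conj_mem⟩
  have h' := F.conj_mem (g := g⁻¹) h
  rwa [inv_smul_smul, show g⁻¹ * (g * a * g⁻¹) * g⁻¹⁻¹ = a by group] at h'

/-- The subgroup of `A x` fixing `y`. -/
def U (x y : X) : Subgroup G := F.A x ⊓ stabilizer G y

theorem mem_U {x y : X} {a : G} : a ∈ F.U x y ↔ a ∈ F.A x ∧ a • y = y := by
  simp [U, Subgroup.mem_inf, mem_stabilizer_iff]

theorem U_le (x y : X) : F.U x y ≤ F.A x := inf_le_left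

theorem U_fix_left {x y : X} {a : G} (ha : a ∈ F.U x y) : a • x = x := F.fix x a (F.U_le x y ha)

theorem U_smul (g : G) (x y : X) :
    F.U (g • x) (g • y) = (F.U x y).map (MulAut.conj g).toMonoidHom := by
  ext a
  simp only [Subgroup.mem_map, mem_U, MulEquiv.coe_toMonoidHom, MulAut.conj_apply]
  constructor
  · rintro ⟨h1, h2⟩
    refine ⟨g⁻¹ * a * g, ⟨?_, ?_⟩, by group⟩
    · exact (F.mem_conj_iff (g := g)).1 (by rwa [show g * (g⁻¹ * a * g) * g⁻¹ = a by group])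
    · rw [mul_smul, mul_smul, h2, inv_smul_smul]
  · rintro ⟨b, ⟨h1, h2⟩, rfl⟩
    exact ⟨F.conj_mem h1, by rw [mul_smul, mul_smul, inv_smul_smul, h2]⟩

theorem card_map_conj (g : G) (H : Subgroup G) :
    Nat.card (H.map (MulAut.conj g).toMonoidHom) = Nat.card H :=
  Subgroup.card_map_of_injective (MulAut.conj g).injective

theorem card_U_eq {x y z w : X} (h : x ≠ y) (h' : z ≠ w) :
    Nat.card (F.U z w) = Nat.card (F.U x y) := by
  obtain ⟨g, rfl, rfl⟩ := F.move h h'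
  rw [F.U_smul, card_map_conj]

theorem card_A_eq [Nontrivial X] (x z : X) : Nat.card (F.A z) = Nat.card (F.A x) := by
  haveI := F.two
  haveI : IsPretransitive G X := isPretransitive_of_is_two_pretransitive
  obtain ⟨g, rfl⟩ := exists_smul_eq G x z
  rw [F.equivar, card_map_conj]

include F in
theorem nontrivial : Nontrivial X := by
  obtain ⟨x, y, h, -⟩ := F.nsr
  exact ⟨⟨x, y, h⟩⟩

theorem U_ne_bot {x y : X} (h : x ≠ y) : F.U x y ≠ ⊥ := by
  obtain ⟨x₀, y₀, h₀, a, ha, ha1, hay⟩ := F.nsr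
  obtain ⟨g, rfl, rfl⟩ := F.move h₀ h
  intro hb
  have : g * a * g⁻¹ ∈ F.U (g • x₀) (g • y₀) := by
    rw [F.U_smul]; exact ⟨a, F.mem_U.2 ⟨ha, hay⟩, rfl⟩
  rw [hb, Subgroup.mem_bot] at this
  exact ha1 (by simpa using this)

theorem exists_U_ne_one {x y : X} (h : x ≠ y) : ∃ a ∈ F.U x y, a ≠ 1 :=
  (Subgroup.bot_or_exists_ne_one _).resolve_left (F.U_ne_bot h)

theorem A_ne_bot (x : X) : F.A x ≠ ⊥ := by
  haveI := F.nontrivial
  obtain ⟨y, hy⟩ := exists_ne x
  intro hb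
  exact F.U_ne_bot hy.symm (le_bot_iff.1 (hb ▸ F.U_le x y))

theorem exists_moved [FaithfulSMul G X] {x y : X} (h : x ≠ y) : ∃ a ∈ F.A x, a • y ≠ y := by
  by_contra hc
  push Not at hc
  apply F.A_ne_bot x
  rw [Subgroup.eq_bot_iff_forall]
  intro a ha
  refine eq_of_smul_eq_smul fun w : X => ?_
  rw [one_smul]
  rcases eq_or_ne x w with rfl | hw
  · exact F.fix _ a ha
  obtain ⟨g, hgx, hgy⟩ := F.move h hw
  have hm : g⁻¹ * a * g ∈ F.A x := by
    refine (F.mem_conj_iff (g := g)).1 ?_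
    rw [hgx, show g * (g⁻¹ * a * g) * g⁻¹ = a by group]
    exact ha
  have h2 := hc _ hm
  rw [mul_smul, mul_smul, inv_smul_eq_iff, hgy] at h2
  exact h2

/-- An element normalising a member of the family fixes its centre, given trivial intersection. -/
theorem smul_eq_of_normalizes [FaithfulSMul G X] {g : G} {x : X}
    (h : ∀ a ∈ F.A x, g * a * g⁻¹ ∈ F.A x) (hti : F.A x ⊓ F.A (g • x) = ⊥) : g • x = x := by
  obtain ⟨a, ha, ha1⟩ := (Subgroup.bot_or_exists_ne_one _).resolve_left (F.A_ne_bot x)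
  have : g * a * g⁻¹ ∈ F.A x ⊓ F.A (g • x) := ⟨h a ha, F.conj_mem ha⟩
  rw [hti, Subgroup.mem_bot] at this
  exact absurd (by simpa using this) ha1

variable [Finite G] [FaithfulSMul G X]

/-- Distinct members of the family intersect trivially. -/
theorem ti {x y : X} (hxy : x ≠ y) : F.A x ⊓ F.A y = ⊥ := by
  have hcard : ∀ {a b : X}, a ≠ b → Nat.card ↥(F.A a ⊓ F.A b) = Nat.card ↥(F.A x ⊓ F.A y) := by
    intro a b hab
    obtain ⟨g, rfl, rfl⟩ := F.move hxy hab
    rw [F.equivar, F.equivar, ← Subgroup.map_inf_eq _ _ _ (MulAut.conj g).injective,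
      card_map_conj]
  rw [Subgroup.eq_bot_iff_forall]
  intro d hd
  obtain ⟨hdx, hdy⟩ := Subgroup.mem_inf.1 hd
  refine eq_of_smul_eq_smul fun w : X => ?_
  rw [one_smul]
  by_contra hw
  have hwx : w ≠ x := by rintro rfl; exact hw (F.fix _ d hdx)
  have hwy : w ≠ y := by rintro rfl; exact hw (F.fix _ d hdy)
  have key : ∀ {z : X}, d ∈ F.A z → w ≠ z → F.A w ⊓ F.A z = F.A w ⊓ F.A (d • w) := by
    intro z hdz hwz
    refine Subgroup.eq_of_le_of_card_ge ?_ (le_of_eq ?_)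
    · intro a ha
      obtain ⟨haw, haz⟩ := Subgroup.mem_inf.1 ha
      refine ⟨haw, ?_⟩
      have := F.conj_mem (g := d) haw
      rwa [F.comm z d hdz a haz, mul_assoc, mul_inv_cancel, mul_one] at this
    · rw [hcard hwz, hcard (Ne.symm hw)]
  have h1 : F.A w ⊓ F.A x ≤ F.A x ⊓ F.A y := le_inf inf_le_right
    ((key hdx hwx).le.trans ((key hdy hwy).ge.trans inf_le_right))
  have h2 : F.A x ⊓ F.A y = F.A w ⊓ F.A x :=
    (Subgroup.eq_of_le_of_card_ge h1 (le_of_eq (hcard hwx).symm)).symm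
  have hdw : d ∈ F.A w := (h2.le hd).1
  exact hw (F.fix w d hdw)

theorem eq_one_of_mem {x y : X} (hxy : x ≠ y) {a : G} (h1 : a ∈ F.A x) (h2 : a ∈ F.A y) :
    a = 1 := by
  have : a ∈ F.A x ⊓ F.A y := ⟨h1, h2⟩
  rwa [F.ti hxy, Subgroup.mem_bot] at this

theorem eq_of_mem {x y : X} {a : G} (ha : a ≠ 1) (h1 : a ∈ F.A x) (h2 : a ∈ F.A y) : x = y :=
  Classical.byContradiction fun h => ha (F.eq_one_of_mem h h1 h2)

theorem U_comm {x y : X} (hxy : x ≠ y) {u v : G} (hu : u ∈ F.U x y) (hv : v ∈ F.U y x) :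
    u * v = v * u := by
  have hx : u * v * u⁻¹ * v⁻¹ ∈ F.A x := by
    have h' := F.conj_mem_of_fix (F.mem_U.1 hv).2 ((F.A x).inv_mem (F.U_le _ _ hu))
    have := (F.A x).mul_mem (F.U_le _ _ hu) h'
    simpa [mul_assoc] using this
  have hy : u * v * u⁻¹ * v⁻¹ ∈ F.A y :=
    (F.A y).mul_mem (F.conj_mem_of_fix (F.mem_U.1 hu).2 (F.U_le _ _ hv))
      ((F.A y).inv_mem (F.U_le _ _ hv))
  have := F.eq_one_of_mem hxy hx hy
  rwa [mul_inv_eq_one, mul_inv_eq_iff_eq_mul] at this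

/-- The product of the two subgroups attached to a pair of points. -/
def W (x y : X) : Subgroup G := F.U x y ⊔ F.U y x

omit [Finite G] [FaithfulSMul G X] in
theorem W_symm (x y : X) : F.W y x = F.W x y := sup_comm _ _

omit [Finite G] [FaithfulSMul G X] in
theorem left_le_W (x y : X) : F.U x y ≤ F.W x y := le_sup_left

omit [Finite G] [FaithfulSMul G X] in
theorem right_le_W (x y : X) : F.U y x ≤ F.W x y := le_sup_right

theorem mem_W {x y : X} (hxy : x ≠ y) {g : G} :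
    g ∈ F.W x y ↔ ∃ u ∈ F.U x y, ∃ v ∈ F.U y x, u * v = g := by
  have hn : F.U y x ≤ Subgroup.normalizer (F.U x y : Set G) := by
    intro v hv
    rw [Subgroup.mem_normalizer_iff]
    intro a
    constructor
    · intro ha
      rwa [← F.U_comm hxy ha hv, mul_assoc, mul_inv_cancel, mul_one]
    · intro ha
      have h2 := F.U_comm hxy ha hv
      have e : a = v * a * v⁻¹ := by
        calc a = v⁻¹ * ((v * a * v⁻¹) * v) := by group
          _ = v⁻¹ * (v * (v * a * v⁻¹)) := by rw [h2]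
          _ = v * a * v⁻¹ := by group
      rwa [← e] at ha
  rw [← SetLike.mem_coe, W, Subgroup.coe_mul_of_right_le_normalizer_left _ _ hn, Set.mem_mul]
  rfl

theorem W_comm {x y : X} (hxy : x ≠ y) {s t : G} (hs : s ∈ F.W x y) (ht : t ∈ F.W x y) :
    s * t = t * s := by
  obtain ⟨u, hu, v, hv, rfl⟩ := (F.mem_W hxy).1 hs
  obtain ⟨u', hu', v', hv', rfl⟩ := (F.mem_W hxy).1 ht
  calc u * v * (u' * v') = u * (v * u') * v' := by group
    _ = u * (u' * v) * v' := by rw [← F.U_comm hxy hu' hv]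
    _ = (u * u') * (v * v') := by group
    _ = (u' * u) * (v' * v) := by
      rw [F.comm x u (F.U_le _ _ hu) u' (F.U_le _ _ hu'),
        F.comm y v (F.U_le _ _ hv) v' (F.U_le _ _ hv')]
    _ = u' * (u * v') * v := by group
    _ = u' * (v' * u) * v := by rw [F.U_comm hxy hu hv']
    _ = u' * v' * (u * v) := by group

theorem A_inf_W {x y : X} (hxy : x ≠ y) : F.A x ⊓ F.W x y = F.U x y := by
  refine le_antisymm ?_ (le_inf (F.U_le x y) (F.left_le_W x y))
  rintro g ⟨hgA, hgW⟩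
  obtain ⟨u, hu, v, hv, rfl⟩ := (F.mem_W hxy).1 hgW
  have hvA : v ∈ F.A x := by
    simpa using (F.A x).mul_mem ((F.A x).inv_mem (F.U_le _ _ hu)) hgA
  rw [F.eq_one_of_mem hxy hvA (F.U_le _ _ hv), mul_one]
  exact hu

theorem card_W {x y : X} (hxy : x ≠ y) :
    Nat.card (F.W x y) = Nat.card (F.U x y) * Nat.card (F.U x y) := by
  classical
  let f : ↥(F.U x y) × ↥(F.U y x) → ↥(F.W x y) := fun q =>
    ⟨q.1.1 * q.2.1, (F.mem_W hxy).2 ⟨_, q.1.2, _, q.2.2, rfl⟩⟩
  have hf : Function.Bijective f := by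
    constructor
    · rintro ⟨⟨u, hu⟩, ⟨v, hv⟩⟩ ⟨⟨u', hu'⟩, ⟨v', hv'⟩⟩ h
      have h' : u * v = u' * v' := congrArg Subtype.val h
      have e : u'⁻¹ * u = v' * v⁻¹ := by
        rw [inv_mul_eq_iff_eq_mul, ← mul_assoc, eq_mul_inv_iff_mul_eq, h']
      have h1 : u'⁻¹ * u = 1 := F.eq_one_of_mem hxy
        ((F.A x).mul_mem ((F.A x).inv_mem (F.U_le _ _ hu')) (F.U_le _ _ hu))
        (e ▸ (F.A y).mul_mem (F.U_le _ _ hv') ((F.A y).inv_mem (F.U_le _ _ hv)))
      obtain rfl : u = u' := (inv_mul_eq_one.1 h1).symm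
      obtain rfl : v = v' := mul_left_cancel h'
      rfl
    · rintro ⟨g, hg⟩
      obtain ⟨u, hu, v, hv, rfl⟩ := (F.mem_W hxy).1 hg
      exact ⟨(⟨u, hu⟩, ⟨v, hv⟩), rfl⟩
  rw [← Nat.card_congr (Equiv.ofBijective f hf), Nat.card_prod, F.card_U_eq hxy hxy.symm]

/-- The line through two points. -/
def L (x y : X) : Set X := {z | Nat.card ↥(F.A z ⊓ F.W x y) = Nat.card (F.U x y)}

theorem left_mem {x y : X} (hxy : x ≠ y) : x ∈ F.L x y := by
  rw [L, Set.mem_ofPred_eq, F.A_inf_W hxy]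

omit [Finite G] [FaithfulSMul G X] in
theorem L_symm {x y : X} (hxy : x ≠ y) : F.L y x = F.L x y := by
  ext z
  rw [L, L, Set.mem_ofPred_eq, Set.mem_ofPred_eq, F.W_symm x y, F.card_U_eq hxy hxy.symm]

theorem right_mem {x y : X} (hxy : x ≠ y) : y ∈ F.L x y :=
  F.L_symm hxy ▸ F.left_mem hxy.symm

theorem inf_W_eq {x y z w : X} (hxy : x ≠ y) (hzw : z ≠ w) (hz : z ∈ F.L x y) (hw : w ∈ F.L x y) :
    F.A z ⊓ F.W x y = F.U z w := by
  have hne : F.A w ⊓ F.W x y ≠ ⊥ := by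
    intro hb
    apply F.U_ne_bot hxy
    rw [← Subgroup.card_eq_one, ← show Nat.card ↥(F.A w ⊓ F.W x y) = Nat.card (F.U x y) from hw,
      hb, Subgroup.card_bot]
  obtain ⟨t', ⟨ht'A, ht'W⟩, ht'1⟩ := (Subgroup.bot_or_exists_ne_one _).resolve_left hne
  refine Subgroup.eq_of_le_of_card_ge ?_ ?_
  · rintro t ⟨htA, htW⟩
    refine F.mem_U.2 ⟨htA, ?_⟩
    have h := F.conj_mem (g := t) ht'A
    rw [F.W_comm hxy htW ht'W, mul_assoc, mul_inv_cancel, mul_one] at h
    exact F.eq_of_mem ht'1 h ht'A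
  · rw [F.card_U_eq hxy hzw]
    exact le_of_eq hz.symm

theorem W_eq {x y z w : X} (hxy : x ≠ y) (hzw : z ≠ w) (hz : z ∈ F.L x y) (hw : w ∈ F.L x y) :
    F.W z w = F.W x y := by
  refine Subgroup.eq_of_le_of_card_ge ?_ ?_
  · refine sup_le ?_ ?_
    · exact (F.inf_W_eq hxy hzw hz hw).ge.trans inf_le_right
    · exact (F.inf_W_eq hxy hzw.symm hw hz).ge.trans inf_le_right
  · rw [F.card_W hxy, F.card_W hzw, F.card_U_eq hxy hzw]

theorem line_eq {x y z w : X} (hxy : x ≠ y) (hzw : z ≠ w) (hz : z ∈ F.L x y) (hw : w ∈ F.L x y) :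
    F.L z w = F.L x y := by
  ext q
  rw [L, L, Set.mem_ofPred_eq, Set.mem_ofPred_eq, F.W_eq hxy hzw hz hw, F.card_U_eq hxy hzw]

theorem U_eq_of_mem {x y z : X} (hxy : x ≠ y) (hxz : x ≠ z) (hz : z ∈ F.L x y) :
    F.U x z = F.U x y := by
  rw [← F.inf_W_eq hxy hxz (F.left_mem hxy) hz, F.A_inf_W hxy]

theorem W_fix {x y z : X} (hxy : x ≠ y) (hz : z ∈ F.L x y) {g : G} (hg : g ∈ F.W x y) :
    g • z = z := by
  obtain ⟨w, hw, hzw⟩ : ∃ w ∈ F.L x y, z ≠ w := by
    rcases eq_or_ne z x with rfl | h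
    · exact ⟨y, F.right_mem hxy, hxy⟩
    · exact ⟨x, F.left_mem hxy, h⟩
  rw [← F.W_eq hxy hzw hz hw] at hg
  obtain ⟨u, hu, v, hv, rfl⟩ := (F.mem_W hzw).1 hg
  rw [mul_smul, (F.mem_U.1 hv).2, F.U_fix_left hu]

theorem U_fix {x y z : X} (hxy : x ≠ y) (hz : z ∈ F.L x y) {g : G} (hg : g ∈ F.U x y) :
    g • z = z := F.W_fix hxy hz (F.left_le_W x y hg)

theorem U_fix' {x y z : X} (hxy : x ≠ y) (hz : z ∈ F.L x y) {g : G} (hg : g ∈ F.U y x) :
    g • z = z := F.W_fix hxy hz (F.right_le_W x y hg)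

omit [Finite G] [FaithfulSMul G X] in
theorem W_smul (g : G) (x y : X) :
    F.W (g • x) (g • y) = (F.W x y).map (MulAut.conj g).toMonoidHom := by
  rw [W, W, F.U_smul, F.U_smul, Subgroup.map_sup]

omit [Finite G] [FaithfulSMul G X] in
theorem smul_mem_iff {g : G} {x y z : X} : g • z ∈ F.L (g • x) (g • y) ↔ z ∈ F.L x y := by
  rw [L, L, Set.mem_ofPred_eq, Set.mem_ofPred_eq, F.W_smul, F.equivar, F.U_smul,
    ← Subgroup.map_inf_eq _ _ _ (MulAut.conj g).injective, card_map_conj, card_map_conj]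

omit [Finite G] [FaithfulSMul G X] in
theorem smul_mem {g : G} {x y z : X} (h : z ∈ F.L x y) : g • z ∈ F.L (g • x) (g • y) :=
  F.smul_mem_iff.2 h

omit [Finite G] [FaithfulSMul G X] in
theorem smul_mem_of_fix {g : G} {x y z : X} (hx : g • x = x) (hy : g • y = y)
    (h : z ∈ F.L x y) : g • z ∈ F.L x y := by
  simpa [hx, hy] using F.smul_mem (g := g) h

theorem exists_notMem {x y : X} (hxy : x ≠ y) : ∃ z : X, z ∉ F.L x y := by
  by_contra hc
  push Not at hc
  obtain ⟨a, ha, ha1⟩ := F.exists_U_ne_one hxy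
  exact ha1 (eq_of_smul_eq_smul fun w : X => by rw [one_smul]; exact F.U_fix hxy (hc w) ha)

end Fam

end Cfsg.Agent.ONanElation
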