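import Cfsg.Agent.Lib.ONanElation.Count

/-!
# Every triangle is generic; the lines satisfy the Veblen-Young condition
-/

set_option autoImplicit false

open MulAction

namespace Cfsg.Agent.ONanElation

variable {G X : Type*} [Group G] [MulAction G X] (F : Fam G X)

namespace Fam

variable [Finite G] [FaithfulSMul G X] [Finite X]

theorem U_eq_of_fix {x y z : X} (hxy : x ≠ y) (hxz : x ≠ z) (h : ∀ a ∈ F.U x y, a • z = z) :
    F.U x z = F.U x y :=
  (Subgroup.eq_of_le_of_card_ge (fun a ha => F.mem_U.2 ⟨F.U_le _ _ ha, h a ha⟩)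
    (le_of_eq (F.card_U_eq hxy hxz))).symm

/-- Every triangle is generic. -/
theorem generic {x y z : X} (hyz : y ≠ z) (hx : x ∉ F.L y z) : ∃ a ∈ F.U x y, a • z ≠ z := by
  by_contra hc
  push Not at hc
  have hxy : x ≠ y := (ne_of_mem_of_not_mem (F.left_mem hyz) hx).symm
  have hxz : x ≠ z := (ne_of_mem_of_not_mem (F.right_mem hyz) hx).symm
  have hU : F.U x z = F.U x y := F.U_eq_of_fix hxy hxz hc
  obtain ⟨w, hyw, hxw, c, hcU, hcw⟩ := F.exists_generic hxy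
  have hwxz : w ∉ F.L x z := fun h => hcw (F.U_fix hxz h (hU.symm ▸ hcU))
  have hwM : w ∉ F.L y z := fun h =>
    hcw (F.fix_line hyz (F.U_le _ _ hcU) (F.mem_U.1 hcU).2 (hc c hcU) h)
  have hy_xz : y ∉ F.L x z := fun h =>
    hx (F.line_eq hxz hyz h (F.right_mem hxz) ▸ F.left_mem hxz)
  have hy_xw : y ∉ F.L x w := by
    have hxw' : x ≠ w := (ne_of_mem_of_not_mem (F.right_mem hyw) hxw).symm
    exact fun h => hxw (F.line_eq hxw' hyw h (F.right_mem hxw') ▸ F.left_mem hxw')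
  -- the triangle `w, y, z` is generic
  have hgw : ∃ b ∈ F.U y w, b • z ≠ z := by
    by_contra h0
    push Not at h0
    have hyx : ∀ b ∈ F.U y x, b • z = z := by
      intro b hb
      by_contra hb'
      obtain ⟨a, ha, haz⟩ := F.generic_symm hyz hx ⟨b, hb, hb'⟩
      exact haz (hc a ha)
    have e1 := F.U_eq_of_fix hyw hyz h0
    have e2 := F.U_eq_of_fix hxy.symm hyz hyx
    obtain ⟨b, hb, hbw⟩ := F.generic_symm (ne_of_mem_of_not_mem (F.right_mem hyw) hxw).symm hy_xw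
      ⟨c, hcU, hcw⟩
    rw [← e2, e1] at hb
    exact hbw (F.mem_U.1 hb).2
  obtain ⟨p, hp, hpy, hpw⟩ := F.exists_third hyw
  have hzyw : z ∉ F.L y w := fun h =>
    hwM (F.line_eq hyw hyz (F.left_mem hyw) h ▸ F.right_mem hyw)
  have hzp : z ≠ p := (ne_of_mem_of_not_mem hp hzyw).symm
  have hwline : w ∈ F.L y p := F.line_eq hyw hpy.symm (F.left_mem hyw) hp ▸ F.right_mem hyw
  have hcp : c • p ≠ p := fun h =>
    hcw (F.fix_line hpy.symm (F.U_le _ _ hcU) (F.mem_U.1 hcU).2 h hwline)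
  have hxp : x ≠ p := (ne_of_mem_of_not_mem hp hxw).symm
  have hxN : x ∉ F.L z p := by
    intro h
    refine hcp (F.U_fix hxz ?_ (hU.symm ▸ hcU))
    exact F.line_eq hzp hxz h (F.left_mem hzp) ▸ F.right_mem hzp
  have hz_xp : z ∉ F.L x p := fun h =>
    hxN (F.line_eq hxp hzp h (F.right_mem hxp) ▸ F.left_mem hxp)
  obtain ⟨-, hfix⟩ := F.counting hzp hxN (F.generic_symm hxp hz_xp ⟨c, hU.symm ▸ hcU, hcp⟩)
  have hxw' : x ≠ w := (ne_of_mem_of_not_mem (F.right_mem hyw) hxw).symm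
  obtain ⟨a, ha, haU⟩ : ∃ a ∈ F.U x w, a ∉ F.U x y := by
    by_contra h0
    push Not at h0
    have := Subgroup.eq_of_le_of_card_ge h0 (le_of_eq (F.card_U_eq hxw' hxy))
    exact hcw (F.mem_U.1 (this.ge hcU)).2
  obtain ⟨r, hrN, har⟩ := hfix a (F.U_le _ _ ha)
  have hwp : w ≠ p := hpw.symm
  have hyline : y ∈ F.L w p := F.line_eq hyw hwp (F.right_mem hyw) hp ▸ F.left_mem hyw
  obtain ⟨g, hg, hgp⟩ := F.exists_smul_eq hwp hyline hyw.symm
  obtain ⟨-, hsplit⟩ := F.product_eq hyz hwM hgw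
  obtain ⟨u, hu, v, hv, rfl⟩ := hsplit g hg
  have hvp : v • p = y := by
    rw [mul_smul] at hgp
    exact (smul_left_cancel u (hgp.trans (F.mem_U.1 hu).2.symm))
  have hwN : w ∉ F.L z p := by
    intro h
    apply hzyw
    rw [← F.line_eq hyw hwp (F.right_mem hyw) hp, F.line_eq hzp hwp h (F.right_mem hzp)]
    exact F.left_mem hzp
  have hwr : w ≠ r := (ne_of_mem_of_not_mem hrN hwN).symm
  have hqM : v • r ∈ F.L y z := by
    have := F.smul_mem (g := v) hrN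
    rwa [(F.mem_U.1 hv).2, hvp, F.L_symm hyz] at this
  have haq : a • (v • r) = v • r :=
    F.fix_line hwr (F.U_le _ _ ha) (F.mem_U.1 ha).2 har (F.central hwr (F.U_le _ _ hv))
  have hxq : x ≠ v • r := (ne_of_mem_of_not_mem hqM hx).symm
  have hUq : F.U x (v • r) = F.U x y := F.U_eq_of_fix hxy hxq fun e he =>
    F.fix_line hyz (F.U_le _ _ he) (F.mem_U.1 he).2 (hc e he) hqM
  exact haU (hUq ▸ F.mem_U.2 ⟨F.U_le _ _ ha, haq⟩)

theorem generic' {x y z : X} (hyz : y ≠ z) (hx : x ∉ F.L y z) : ∃ b ∈ F.U y x, b • z ≠ z := by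
  have hxz : x ≠ z := (ne_of_mem_of_not_mem (F.right_mem hyz) hx).symm
  exact F.generic hxz fun h => hx (F.line_eq hxz hyz h (F.right_mem hxz) ▸ F.left_mem hxz)

theorem meets {x y z : X} (hyz : y ≠ z) {a : G} (ha : a ∈ F.A x) :
    ∃ w ∈ F.L y z, a • w = w := by
  by_cases hx : x ∈ F.L y z
  · exact ⟨x, hx, F.fix x a ha⟩
  · exact (F.counting hyz hx (F.generic' hyz hx)).2 a ha

theorem veblen {x y z y' z' : X} (hxy : x ≠ y) (hxz : x ≠ z) (hyz : y ≠ z) (hz : z ∉ F.L x y)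
    (hy' : y' ∈ F.L x y) (hz' : z' ∈ F.L x z) (hne : y' ≠ z') :
    ∃ w : X, w ∈ F.L y z ∧ w ∈ F.L y' z' := by
  have hx : x ∉ F.L y z := fun h =>
    hz (F.line_eq hyz hxy h (F.left_mem hyz) ▸ F.right_mem hyz)
  rcases eq_or_ne x y' with rfl | hxy'
  · exact ⟨z, F.right_mem hyz, F.line_eq hxz hne (F.left_mem hxz) hz' ▸ F.right_mem hxz⟩
  rcases eq_or_ne x z' with rfl | hxz'
  · exact ⟨y, F.left_mem hyz, F.line_eq hxy hne hy' (F.left_mem hxy) ▸ F.right_mem hxy⟩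
  obtain ⟨a₀, ha₀, ha₀y⟩ := F.exists_smul_eq hxy hy' hxy'
  have hz1L : a₀ • z ∈ F.L x z := F.central hxz ha₀
  have hxz1 : x ≠ a₀ • z := (F.smul_ne_centre hxz ha₀).symm
  obtain ⟨a₁, ha₁, ha₁z⟩ := F.exists_smul_eq hxz1
    (F.line_eq hxz hxz1 (F.left_mem hxz) hz1L ▸ hz') hxz'
  obtain ⟨-, hsplit⟩ := F.product_eq hyz hx (F.generic' hyz hx)
  obtain ⟨u, hu, v, hv, rfl⟩ := hsplit a₁ ha₁
  rw [mul_smul, F.U_fix hxz hz1L hv, ← mul_smul] at ha₁z
  have hay : (u * a₀) • y = y' := by rw [mul_smul, ha₀y]; exact F.U_fix hxy hy' hu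
  obtain ⟨w, hw, hfix⟩ := F.meets hyz ((F.A x).mul_mem (F.U_le _ _ hu) ha₀)
  refine ⟨w, hw, ?_⟩
  have := F.smul_mem (g := u * a₀) hw
  rwa [hfix, hay, ha₁z] at this

end Fam

end Cfsg.Agent.ONanElation
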