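import Cfsg.Agent.Lib.ONanElation.Geo
import Cfsg.Agent.Lib.ONanElation.Generic

/-!
# The elation geometry of an abelian normal subgroup of a point stabiliser
-/

set_option autoImplicit false

open MulAction

namespace Cfsg.Agent.ONanElation

variable {G X : Type*} [Group G] [MulAction G X] (F : Fam G X)

namespace Fam

/-- The elations with centre `c` whose axis contains the fixed points of `a`. -/
def E (a : G) (c : X) : Subgroup G := F.A c ⊓ fixingSubgroup G {h : X | a • h = h}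

theorem mem_E {a b : G} {c : X} :
    b ∈ F.E a c ↔ b ∈ F.A c ∧ ∀ h : X, a • h = h → b • h = h := by
  simp [E, Subgroup.mem_inf, mem_fixingSubgroup_iff]

variable [Finite G] [FaithfulSMul G X] [Finite X]

theorem fix_subset {x c h : X} {a b : G} (ha : a ∈ F.A x) (hb : b ∈ F.E a c) (hb1 : b ≠ 1)
    (hh : b • h = h) : a • h = h := by
  by_contra hah
  obtain ⟨hbA, hbH⟩ := F.mem_E.1 hb
  apply hb1
  refine eq_of_smul_eq_smul fun q : X => ?_
  rw [one_smul]
  rcases eq_or_ne h q with rfl | hq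
  · exact hh
  obtain ⟨r, hr, har⟩ := F.meets hq ha
  have hhr : h ≠ r := fun e => hah (e ▸ har)
  exact F.fix_line hhr hbA hh (hbH r har)
    (F.line_eq hq hhr (F.left_mem hq) hr ▸ F.right_mem hq)

theorem card_A_le_E {x c : X} {a : G} (ha : a ∈ F.A x) (ha1 : a ≠ 1) (hxc : x ≠ c)
    (hac : a • c = c) :
    Nat.card (F.A c) ≤ Nat.card (F.E a c) * Nat.card (F.U c x) := by
  have hmem : ∀ b ∈ F.A c, a * b * a⁻¹ * b⁻¹ ∈ F.E a c := by
    intro b hb
    refine F.mem_E.2 ⟨(F.A c).mul_mem (F.conj_mem_of_fix hac hb) ((F.A c).inv_mem hb),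
      fun h hh => ?_⟩
    rcases eq_or_ne c h with rfl | hch
    · exact F.fix _ _ ((F.A c).mul_mem (F.conj_mem_of_fix hac hb) ((F.A c).inv_mem hb))
    · rw [mul_smul, mul_smul, mul_smul,
        inv_smul_eq_iff.2 (F.fix_line hch ha hac hh (F.central hch ((F.A c).inv_mem hb))).symm,
        smul_inv_smul, hh]
  let f : ↥(F.A c) →* ↥(F.E a c) :=
    MonoidHom.mk' (fun b => ⟨a * b * a⁻¹ * (b : G)⁻¹, hmem b b.2⟩) (fun b b' => by
      refine Subtype.ext ?_
      show a * ((b : G) * b') * a⁻¹ * ((b : G) * b')⁻¹ =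
        (a * b * a⁻¹ * (b : G)⁻¹) * (a * b' * a⁻¹ * (b' : G)⁻¹)
      have h2 := (F.mem_E.1 (hmem b' b'.2)).1
      calc a * ((b : G) * b') * a⁻¹ * ((b : G) * b')⁻¹
          = (a * b * a⁻¹) * ((a * b' * a⁻¹ * (b' : G)⁻¹) * (b : G)⁻¹) := by group
        _ = (a * b * a⁻¹) * ((b : G)⁻¹ * (a * b' * a⁻¹ * (b' : G)⁻¹)) := by
            rw [F.comm c _ h2 _ ((F.A c).inv_mem b.2)]
        _ = _ := by group)
  have hker : Nat.card f.ker ≤ Nat.card (F.U c x) := by
    refine Nat.card_le_card_of_injective (fun b => ⟨b.1.1, ?_⟩) ?_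
    · refine F.mem_U.2 ⟨b.1.2, ?_⟩
      have e : a * (b.1 : G) * a⁻¹ * (b.1 : G)⁻¹ = 1 := congrArg Subtype.val b.2
      have e' : a * (b.1 : G) = b.1 * a := by
        rw [mul_inv_eq_one, mul_inv_eq_iff_eq_mul] at e
        exact e
      have hm := F.conj_mem (g := (b.1 : G)) ha
      rw [← e', mul_assoc, mul_inv_cancel, mul_one] at hm
      exact F.eq_of_mem ha1 hm ha
    · rintro ⟨⟨b, hb⟩, h⟩ ⟨⟨b', hb'⟩, h'⟩ e
      obtain rfl : b = b' := congrArg Subtype.val e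
      rfl
  rw [Subgroup.card_eq_card_quotient_mul_card_subgroup f.ker,
    Nat.card_congr (QuotientGroup.quotientKerEquivRange f).toEquiv]
  exact Nat.mul_le_mul (Subgroup.card_le_card_group _) hker

theorem full_of_ne {x c q r : X} {a : G} (ha : a ∈ F.A x) (ha1 : a ≠ 1) (hxc : x ≠ c)
    (hac : a • c = c) (hq : a • q ≠ q) (hr : a • r ≠ r) (hrL : r ∈ F.L c q) :
    ∃ b ∈ F.A c, b • q = r ∧ ∀ h : X, a • h = h → b • h = h := by
  have hcq : c ≠ q := fun e => hq (e ▸ hac)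
  let φ : ↥(F.E a c) → X := fun b => (b : G) • q
  have hinj : Function.Injective φ := by
    intro b b' e
    by_contra hne
    have h1 : (b'⁻¹ * b : ↥(F.E a c)) ≠ 1 := fun h => hne (inv_mul_eq_one.1 h).symm
    refine hq (F.fix_subset ha (b'⁻¹ * b).2 (fun h => h1 (Subtype.ext h)) ?_)
    show ((b' : G)⁻¹ * (b : G)) • q = q
    rw [mul_smul, inv_smul_eq_iff]
    exact e
  have hsub : Set.range φ ⊆ F.L c q \ {c} := by
    rintro _ ⟨b, rfl⟩
    exact ⟨F.central hcq (F.mem_E.1 b.2).1, F.smul_ne_centre hcq (F.mem_E.1 b.2).1⟩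
  have hcard : (F.L c q \ {c}).ncard ≤ (Set.range φ).ncard := by
    rw [Set.ncard_sdiff_singleton_of_mem (F.left_mem hcq), ← Nat.card_coe_set_eq (Set.range φ),
      Nat.card_range_of_injective hinj]
    refine Nat.le_of_mul_le_mul_right ?_ (Nat.card_pos (α := F.U c q))
    rw [F.card_line_mul hcq]
    refine (F.card_A_le_E ha ha1 hxc hac).trans (le_of_eq ?_)
    rw [F.card_U_eq hcq hxc.symm]
  have hr' : r ∈ Set.range φ := by
    rw [Set.eq_of_subset_of_ncard_le hsub hcard]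
    exact ⟨hrL, fun e => hr (show a • r = r by rw [show r = c from e, hac])⟩
  obtain ⟨⟨b, hb⟩, hbr⟩ := hr'
  exact ⟨b, (F.mem_E.1 hb).1, hbr, (F.mem_E.1 hb).2⟩

theorem full {x c q r : X} {a : G} (ha : a ∈ F.A x) (ha1 : a ≠ 1)
    (hac : a • c = c) (hq : a • q ≠ q) (hr : a • r ≠ r) (hrL : r ∈ F.L c q) :
    ∃ b ∈ F.A c, b • q = r ∧ ∀ h : X, a • h = h → b • h = h := by
  rcases eq_or_ne x c with rfl | hxc
  swap
  · exact F.full_of_ne ha ha1 hxc hac hq hr hrL
  haveI := F.nontrivial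
  obtain ⟨y, hy⟩ := exists_ne x
  obtain ⟨z, hyz, hx, -⟩ := F.exists_generic hy.symm
  obtain ⟨c₁, hc₁, hac₁⟩ := F.meets hyz ha
  have hxc₁ : x ≠ c₁ := (ne_of_mem_of_not_mem hc₁ hx).symm
  obtain ⟨a₁, ha₁, ha₁1⟩ : ∃ a₁ ∈ F.E a c₁, a₁ ≠ 1 := by
    refine (Subgroup.bot_or_exists_ne_one _).resolve_left fun hb => ?_
    have h := F.card_A_le_E ha ha1 hxc₁ hac₁
    rw [hb, Subgroup.card_bot, one_mul] at h
    obtain ⟨e, he, hex⟩ := F.exists_moved hxc₁.symm
    have := Subgroup.eq_of_le_of_card_ge (F.U_le c₁ x) h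
    exact hex (F.mem_U.1 (this.ge he)).2
  have hFix : ∀ h : X, a₁ • h = h ↔ a • h = h := fun h =>
    ⟨F.fix_subset ha ha₁ ha₁1, fun hh => (F.mem_E.1 ha₁).2 h hh⟩
  obtain ⟨b, hb, hbq, hbH⟩ := F.full_of_ne (F.mem_E.1 ha₁).1 ha₁1 hxc₁.symm ((hFix x).2 hac)
    (fun e => hq ((hFix q).1 e)) (fun e => hr ((hFix r).1 e)) hrL
  exact ⟨b, hb, hbq, fun h hh => hbH h ((hFix h).2 hh)⟩

/-- The elation geometry of the family. -/
def geo : Geo G X where
  L := F.L
  A := F.A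
  equivar := F.equivar
  fix := F.fix
  comm := F.comm
  ti _ _ h := F.ti h
  moved _ _ h := F.exists_moved h
  left_mem _ _ h := F.left_mem h
  right_mem _ _ h := F.right_mem h
  line_eq _ _ _ _ h h' hz hw := F.line_eq h h' hz hw
  smul_line _ _ _ _ _ := F.smul_mem_iff
  three _ _ h := F.exists_third h
  not_all _ _ h := F.exists_notMem h
  veblen _ _ _ _ _ h1 h2 h3 h4 h5 h6 h7 := F.veblen h1 h2 h3 h4 h5 h6 h7
  central _ _ ha _ h := F.central h ha
  fix_line _ _ ha _ _ _ h hy hz hw := F.fix_line h ha hy hz hw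
  meets _ _ ha _ _ h := F.meets h ha
  full _ _ ha ha1 _ _ _ hac hq hr hrL := F.full ha ha1 hac hq hr hrL

end Fam

end Cfsg.Agent.ONanElation
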