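import Cfsg.Agent.Lib.ONanElation.Basic

/-!
# Every element of a member of the family fixes every line through its centre
-/

set_option autoImplicit false

open MulAction Pointwise

namespace Cfsg.Agent.ONanElation

variable {G X : Type*} [Group G] [MulAction G X] (F : Fam G X)

namespace Fam

theorem isPGroup_of_le {x : X} {H : Subgroup G} (h : H ≤ F.A x) : IsPGroup F.p H :=
  fun a => ⟨1, Subtype.ext (by simpa using F.exponent x a (h a.2))⟩

variable [Finite G] [FaithfulSMul G X]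

theorem smul_line_of_mem {g : G} {x y : X} (hxy : x ≠ y) (hx : g • x = x)
    (hy : g • y ∈ F.L x y) : g • F.L x y = F.L x y := by
  have hne : x ≠ g • y := by
    intro h
    rw [← hx] at h
    exact hxy (smul_left_cancel g h)
  ext z
  rw [Set.mem_smul_set_iff_inv_smul_mem, ← F.smul_mem_iff (g := g), smul_inv_smul, hx,
    F.line_eq hxy hne (F.left_mem hxy) hy]

theorem smul_line {g : G} {x y : X} : g • F.L x y = F.L (g • x) (g • y) := by
  ext z
  rw [Set.mem_smul_set_iff_inv_smul_mem, ← F.smul_mem_iff (g := g), smul_inv_smul]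

variable [Finite X]

/-- Every element of `A x` fixes every line through `x`. -/
theorem central {x y : X} (hxy : x ≠ y) {a : G} (ha : a ∈ F.A x) : a • y ∈ F.L x y := by
  haveI := Fact.mk F.prime
  by_contra hcon
  -- the lines in the orbit of `L x y` under `A x`
  let O : Set (Set X) := MulAction.orbit (F.A x) (F.L x y)
  have hmemO : ∀ {S : Set X}, S ∈ O ↔ ∃ b ∈ F.A x, b • F.L x y = S := fun {S} =>
    ⟨fun ⟨b, hb⟩ => ⟨b.1, b.2, hb⟩, fun ⟨b, hb, h⟩ => ⟨⟨b, hb⟩, h⟩⟩
  have hL : ∀ v ∈ F.U y x, v • F.L x y = F.L x y := fun v hv =>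
    F.smul_line_of_mem hxy (F.mem_U.1 hv).2
      (by rw [F.U_fix_left hv]; exact F.right_mem hxy)
  have hinv : ∀ v ∈ F.U y x, ∀ S ∈ O, v • S ∈ O := by
    intro v hv S hS
    obtain ⟨b, hb, rfl⟩ := hmemO.1 hS
    refine hmemO.2 ⟨v * b * v⁻¹, F.conj_mem_of_fix (F.mem_U.1 hv).2 hb, ?_⟩
    conv_lhs => rw [← hL v hv]
    rw [← mul_smul, ← mul_smul]
    congr 1
    group
  letI : MulAction (F.U y x) ↥O :=
    { smul := fun v S => ⟨v.1 • S.1, hinv _ v.2 _ S.2⟩
      one_smul := fun S => Subtype.ext (one_smul G (S.1))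
      mul_smul := fun v w S => Subtype.ext (mul_smul v.1 w.1 S.1) }
  have hdvd : F.p ∣ Nat.card ↥O := by
    obtain ⟨n, hn⟩ := (F.isPGroup_of_le (le_refl (F.A x))).exists_card_eq
    have hd : Nat.card ↥O ∣ Nat.card (F.A x) :=
      ⟨Nat.card (stabilizer (F.A x) (F.L x y)),
        by rw [Subgroup.card_eq_card_quotient_mul_card_subgroup
            (stabilizer (F.A x) (F.L x y)),
          ← Nat.card_congr (orbitEquivQuotientStabilizer (F.A x) (F.L x y))]⟩
    obtain ⟨i, -, hi⟩ := (Nat.dvd_prime_pow F.prime).1 (hn ▸ hd)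
    rcases Nat.eq_zero_or_pos i with rfl | hi0
    · exfalso
      rw [pow_zero, Nat.card_eq_one_iff_unique] at hi
      obtain ⟨hsub, -⟩ := hi
      have hmem : a • F.L x y ∈ O := hmemO.2 ⟨a, ha, rfl⟩
      have h0 : F.L x y ∈ O := MulAction.mem_orbit_self _
      have e : a • F.L x y = F.L x y :=
        congrArg Subtype.val (hsub.elim (⟨_, hmem⟩ : ↥O) ⟨_, h0⟩)
      exact hcon (e ▸ Set.smul_mem_smul_set (F.right_mem hxy))
    · rw [hi]; exact dvd_pow_self _ hi0.ne'
  have hfix0 : (⟨F.L x y, MulAction.mem_orbit_self _⟩ : ↥O) ∈ fixedPoints (F.U y x) ↥O :=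
    fun v => Subtype.ext (hL v v.2)
  obtain ⟨⟨S, hS⟩, hSfix, hSne⟩ :=
    (F.isPGroup_of_le (F.U_le y x)).exists_fixed_point_of_prime_dvd_card_of_fixed_point
      ↥O hdvd hfix0
  obtain ⟨b, hb, rfl⟩ := hmemO.1 hS
  have hSv : ∀ v ∈ F.U y x, v • b • F.L x y = b • F.L x y := fun v hv =>
    congrArg Subtype.val (hSfix ⟨v, hv⟩)
  have hbL : b • F.L x y ≠ F.L x y := fun h => hSne (Subtype.ext h.symm)
  have hbx : b • x = x := F.fix x b hb
  set z := b • y with hz
  have hxz : x ≠ z := by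
    intro h
    rw [← hbx, hz] at h
    exact hxy (smul_left_cancel b h)
  have hS2 : b • F.L x y = F.L x z := by rw [F.smul_line, hbx]
  have hzL : z ∉ F.L x y := fun h => hbL (F.smul_line_of_mem hxy hbx h)
  rw [hS2] at hSv
  by_cases hcase : ∀ v ∈ F.U y x, v • z = z
  · -- then `U z x` lies in `W x y`, so `z` lies on the line
    have hUxz : F.U x z = F.U x y := by
      ext c
      rw [F.mem_U, F.mem_U]
      refine and_congr_right fun hc => ?_
      rw [hz, ← mul_smul, F.comm x c hc b hb, mul_smul, smul_left_cancel_iff]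
    have key : ∀ v ∈ F.U y x, b * v * b⁻¹ ∈ F.W x y := by
      intro v hv
      have hc : v * b * v⁻¹ * b⁻¹ ∈ F.A x :=
        (F.A x).mul_mem (F.conj_mem_of_fix (F.mem_U.1 hv).2 hb) ((F.A x).inv_mem hb)
      have hcy : (v * b * v⁻¹ * b⁻¹) • z = z := by
        rw [hz, ← mul_smul, show v * b * v⁻¹ * b⁻¹ * b = v * b * v⁻¹ by group, mul_smul, mul_smul,
          inv_smul_eq_iff.2 (F.U_fix_left hv).symm, ← hz]
        exact hcase v hv
      have hcU : v * b * v⁻¹ * b⁻¹ ∈ F.U x y := hUxz ▸ F.mem_U.2 ⟨hc, hcy⟩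
      have e : b * v * b⁻¹ = (v * b * v⁻¹ * b⁻¹)⁻¹ * v := by group
      rw [e]
      exact (F.W x y).mul_mem (F.left_le_W x y ((F.U x y).inv_mem hcU)) (F.right_le_W x y hv)
    apply hzL
    show Nat.card ↥(F.A z ⊓ F.W x y) = Nat.card (F.U x y)
    have hle : (F.U y x).map (MulAut.conj b).toMonoidHom ≤ F.A z ⊓ F.W x y := by
      rintro _ ⟨v, hv, rfl⟩
      exact ⟨F.conj_mem (F.U_le _ _ hv), key v hv⟩
    have heq : F.A z ⊓ F.W x y = (F.U y x).map (MulAut.conj b).toMonoidHom := by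
      refine le_antisymm ?_ hle
      rintro g ⟨hgA, hgW⟩
      have h2 : g ∈ F.U z x := F.mem_U.2 ⟨hgA, F.W_fix hxy (F.left_mem hxy) hgW⟩
      rwa [hz, show F.U (b • y) x = F.U (b • y) (b • x) by rw [hbx], F.U_smul] at h2
    rw [heq, Fam.card_map_conj, F.card_U_eq hxy hxy.symm]
  · push Not at hcase
    obtain ⟨v, hv, hvz⟩ := hcase
    have hvx : v • x = x := (F.mem_U.1 hv).2
    -- on the second line `v` acts as an element of `A x`
    set k := v * (b * v * b⁻¹)⁻¹ with hk
    have hkA : k ∈ F.A x := by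
      rw [hk, show v * (b * v * b⁻¹)⁻¹ = (v * b * v⁻¹) * b⁻¹ by group]
      exact (F.A x).mul_mem (F.conj_mem_of_fix hvx hb) ((F.A x).inv_mem hb)
    have hkw : ∀ w ∈ F.L x z, v • w = k • w := by
      intro w hw
      have hw' : b⁻¹ • w ∈ F.L x y := by
        rwa [← F.smul_mem_iff (g := b), smul_inv_smul, hbx, ← hz]
      rw [hk, mul_smul]
      congr 1
      rw [eq_inv_smul_iff, mul_smul, mul_smul, F.U_fix' hxy hw' hv, smul_inv_smul]
    have honly : ∀ w ∈ F.L x z, v • w = w → w = x := by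
      intro w hw hvw
      by_contra hwx
      apply hvz
      have hkU : k ∈ F.U x z := by
        rw [← F.U_eq_of_mem hxz (Ne.symm hwx) hw]
        exact F.mem_U.2 ⟨hkA, by rw [← hkw w hw, hvw]⟩
      rw [hkw z (F.right_mem hxz)]
      exact (F.mem_U.1 hkU).2
    have hvz2 : v • z ∈ F.L x z := by
      rw [← hSv v hv]; exact Set.smul_mem_smul_set (F.right_mem hxz)
    have hyz : y ≠ z := by
      intro h; apply hzL; rw [← h]; exact F.right_mem hxy
    have hUV : F.U y z ≤ F.U y x := by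
      intro e he
      have hev : e * v = v * e := F.comm y e (F.U_le _ _ he) v (F.U_le _ _ hv)
      have hez : e • z = z := (F.mem_U.1 he).2
      have hev' : e • (v • z) = v • z := by rw [← mul_smul, hev, mul_smul, hez]
      have hex : e • x ∈ F.L x z := by
        have hline : F.L z (v • z) = F.L x z :=
          F.line_eq hxz (Ne.symm hvz) (F.right_mem hxz) hvz2
        have := F.smul_mem_of_fix hez hev' (hline.symm ▸ F.left_mem hxz : x ∈ F.L z (v • z))
        rwa [hline] at this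
      refine F.mem_U.2 ⟨F.U_le _ _ he, honly _ hex ?_⟩
      rw [← mul_smul, ← hev, mul_smul, hvx]
    have hUVeq : F.U y z = F.U y x :=
      Subgroup.eq_of_le_of_card_ge hUV (le_of_eq (F.card_U_eq hyz hxy.symm))
    exact hvz (F.mem_U.1 (hUVeq ▸ hv : v ∈ F.U y z)).2

theorem smul_mem_line {x y z : X} (hxy : x ≠ y) {a : G} (ha : a ∈ F.A x) (hz : z ∈ F.L x y) :
    a • z ∈ F.L x y := by
  rw [← F.smul_line_of_mem hxy (F.fix x a ha) (F.central hxy ha)]
  exact Set.smul_mem_smul_set hz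

omit [Finite G] [FaithfulSMul G X] [Finite X] in
theorem smul_ne_centre {x y : X} (hxy : x ≠ y) {a : G} (ha : a ∈ F.A x) : a • y ≠ x := by
  intro h
  rw [← F.fix x a ha] at h
  exact hxy (smul_left_cancel a h).symm

/-- The commutator of an element of `A x` with an element of `U y x` lies in `U x y`. -/
theorem kappa_mem {x y : X} (hxy : x ≠ y) {a v : G} (ha : a ∈ F.A x) (hv : v ∈ F.U y x) :
    a * v * a⁻¹ * v⁻¹ ∈ F.U x y := by
  refine F.mem_U.2 ⟨?_, ?_⟩
  · rw [show a * v * a⁻¹ * v⁻¹ = a * (v * a⁻¹ * v⁻¹) by group]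
    exact (F.A x).mul_mem ha (F.conj_mem_of_fix (F.mem_U.1 hv).2 ((F.A x).inv_mem ha))
  · rw [mul_smul, mul_smul, mul_smul, inv_smul_eq_iff.2 (F.U_fix_left hv).symm,
      F.U_fix' hxy (F.central hxy ((F.A x).inv_mem ha)) hv, smul_inv_smul]

/-- The orbit of a point under `A x` lies on the line and avoids the centre. -/
theorem orbit_subset {x y : X} (hxy : x ≠ y) :
    MulAction.orbit (F.A x) y ⊆ F.L x y \ {x} := by
  rintro _ ⟨⟨a, ha⟩, rfl⟩
  exact ⟨F.central hxy ha, F.smul_ne_centre hxy ha⟩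

omit [Finite G] [FaithfulSMul G X] [Finite X] in
theorem card_orbit_mul {x y : X} :
    Nat.card (MulAction.orbit (F.A x) y) * Nat.card (F.U x y) = Nat.card (F.A x) := by
  rw [Subgroup.card_eq_card_quotient_mul_card_subgroup (stabilizer (F.A x) y),
    ← Nat.card_congr (orbitEquivQuotientStabilizer (F.A x) y)]
  congr 1
  refine Nat.card_congr ?_
  exact
    { toFun := fun a => ⟨⟨a.1, F.U_le _ _ a.2⟩, (F.mem_U.1 a.2).2⟩
      invFun := fun a => ⟨a.1.1, F.mem_U.2 ⟨a.1.2, a.2⟩⟩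
      left_inv := fun a => rfl
      right_inv := fun a => rfl }

theorem card_A_le {x y : X} (hxy : x ≠ y) :
    Nat.card (F.A x) ≤ ((F.L x y).ncard - 1) * Nat.card (F.U x y) := by
  rw [← F.card_orbit_mul (y := y)]
  refine Nat.mul_le_mul_right _ ?_
  rw [Nat.card_coe_set_eq]
  refine (Set.ncard_le_ncard (F.orbit_subset hxy) (Set.toFinite _)).trans ?_
  rw [Set.ncard_sdiff_singleton_of_mem (F.left_mem hxy)]

end Fam

end Cfsg.Agent.ONanElation
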