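import Cfsg.Agent.Lib.ONanElation.Central

/-!
# Counting on a triangle

For a triangle `x, y, z` with `U x y ≠ U x z` the group `A x` is the product of these two subgroups,
its elements each fix a point of `L y z`, and it is transitive on the points of a line through `x`
other than `x`.
-/

set_option autoImplicit false

open MulAction Pointwise

namespace Cfsg.Agent.ONanElation

variable {G X : Type*} [Group G] [MulAction G X] (F : Fam G X)

namespace Fam

variable [Finite G] [FaithfulSMul G X] [Finite X]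

theorem meet_eq {a b c d p q : X} (hab : a ≠ b) (hcd : c ≠ d) (hne : F.L a b ≠ F.L c d)
    (hp : p ∈ F.L a b) (hp' : p ∈ F.L c d) (hq : q ∈ F.L a b) (hq' : q ∈ F.L c d) : p = q := by
  by_contra h
  exact hne ((F.line_eq hab h hp hq).symm.trans (F.line_eq hcd h hp' hq'))

/-- An element of `A x` fixing two points fixes their line pointwise. -/
theorem fix_line {x y z w : X} (hyz : y ≠ z) {a : G} (ha : a ∈ F.A x) (hy : a • y = y)
    (hz : a • z = z) (hw : w ∈ F.L y z) : a • w = w := by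
  by_cases hx : x ∈ F.L y z
  · obtain ⟨v, hv, hxv, hav⟩ : ∃ v ∈ F.L y z, x ≠ v ∧ a • v = v := by
      rcases eq_or_ne x y with rfl | h
      · exact ⟨z, F.right_mem hyz, hyz, hz⟩
      · exact ⟨y, F.left_mem hyz, h, hy⟩
    rw [← F.line_eq hyz hxv hx hv] at hw
    exact F.U_fix hxv hw (F.mem_U.2 ⟨ha, hav⟩)
  · have hxw : x ≠ w := fun h => hx (h ▸ hw)
    refine F.meet_eq hyz hxw (fun h => hx (h ▸ F.left_mem hxw)) ?_ (F.central hxw ha) hw
      (F.right_mem hxw)
    exact F.smul_mem_of_fix hy hz hw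

theorem U_le_of_mem {x y z w : X} (hyz : y ≠ z) (hw : w ∈ F.L y z) :
    F.U x y ⊓ F.U x z ≤ F.U x w := by
  rintro a ⟨hay, haz⟩
  exact F.mem_U.2 ⟨F.U_le _ _ hay,
    F.fix_line hyz (F.U_le _ _ hay) (F.mem_U.1 hay).2 (F.mem_U.1 haz).2 hw⟩

theorem inf_eq_of_mem {x y z v w : X} (hyz : y ≠ z) (hvw : v ≠ w) (hv : v ∈ F.L y z)
    (hw : w ∈ F.L y z) : F.U x v ⊓ F.U x w = F.U x y ⊓ F.U x z := by
  refine le_antisymm ?_ (le_inf (F.U_le_of_mem hyz hv) (F.U_le_of_mem hyz hw))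
  have hy : y ∈ F.L v w := F.line_eq hyz hvw hv hw ▸ F.left_mem hyz
  have hz : z ∈ F.L v w := F.line_eq hyz hvw hv hw ▸ F.right_mem hyz
  exact le_inf (F.U_le_of_mem hvw hy) (F.U_le_of_mem hvw hz)

theorem off_left {x y z : X} (hyz : y ≠ z) (hx : x ∉ F.L y z) : z ∉ F.L x y := by
  intro hz
  have hxy : x ≠ y := (ne_of_mem_of_not_mem (F.left_mem hyz) hx).symm
  exact hx (F.line_eq hxy hyz (F.right_mem hxy) hz ▸ F.left_mem hxy)

theorem kappa_moves {x y z : X} (hyz : y ≠ z) (hx : x ∉ F.L y z) {a b : G} (ha : a ∈ F.A x)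
    (hay : a • y ≠ y) (hb : b ∈ F.U y x) (hbz : b • z ≠ z) :
    (a * b * a⁻¹ * b⁻¹) • z ≠ z := by
  intro h
  have hxy : x ≠ y := (ne_of_mem_of_not_mem (F.left_mem hyz) hx).symm
  set q := b⁻¹ • z with hq
  have hqM : q ∈ F.L y z := F.central hyz ((F.A y).inv_mem (F.U_le _ _ hb))
  have hqz : q ≠ z := fun e => hbz (eq_inv_smul_iff.1 (hq ▸ e).symm)
  have h' : b • a⁻¹ • q = a⁻¹ • z := by
    rw [eq_inv_smul_iff, hq, ← mul_smul, ← mul_smul, ← mul_smul]
    simpa [mul_assoc] using h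
  have hyq : y ≠ a⁻¹ • q := by
    intro e
    rw [← e, F.U_fix_left hb] at h'
    have : a • y = z := by rw [h', smul_inv_smul]
    exact F.off_left hyz hx (this ▸ F.central hxy ha)
  have h1 : a⁻¹ • z ∈ F.L y (a⁻¹ • q) := h' ▸ F.central hyq (F.U_le _ _ hb)
  have h2 : a⁻¹ • q ≠ a⁻¹ • z := fun e => hqz (smul_left_cancel _ e)
  have h3 : y ∈ F.L (a⁻¹ • q) (a⁻¹ • z) :=
    F.line_eq hyq h2 (F.right_mem hyq) h1 ▸ F.left_mem hyq
  have h4 : a • y ∈ F.L q z := by simpa using F.smul_mem (g := a) h3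
  rw [F.line_eq hyz hqz hqM (F.right_mem hyz)] at h4
  exact hay (F.meet_eq hyz hxy (fun e => hx (e ▸ F.left_mem hxy)) h4 (F.central hxy ha)
    (F.left_mem hyz) (F.right_mem hxy))

theorem generic_symm {x y z : X} (hyz : y ≠ z) (hx : x ∉ F.L y z)
    (h : ∃ b ∈ F.U y x, b • z ≠ z) : ∃ a ∈ F.U x y, a • z ≠ z := by
  obtain ⟨b, hb, hbz⟩ := h
  have hxy : x ≠ y := (ne_of_mem_of_not_mem (F.left_mem hyz) hx).symm
  obtain ⟨a, ha, hay⟩ := F.exists_moved hxy
  exact ⟨_, F.kappa_mem hxy ha hb, F.kappa_moves hyz hx ha hay hb hbz⟩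

omit [Finite G] [FaithfulSMul G X] [Finite X] in
theorem normal_subgroupOf {x : X} {H K : Subgroup G} (hK : K ≤ F.A x) :
    (H.subgroupOf K).Normal :=
  ⟨fun n hn g => by
    have : g * n * g⁻¹ = n :=
      Subtype.ext (show (g : G) * n * (g : G)⁻¹ = n by
        rw [F.comm x g (hK g.2) n (hK n.2), mul_assoc, mul_inv_cancel, mul_one])
    rwa [this]⟩

theorem card_A_mul_inf_le {x y z : X} (hyz : y ≠ z) (hx : x ∉ F.L y z)
    (hg : ∃ b ∈ F.U y x, b • z ≠ z) :
    Nat.card (F.A x) * Nat.card ↥(F.U x y ⊓ F.U x z) ≤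
      Nat.card (F.U x y) * Nat.card (F.U x y) := by
  obtain ⟨b, hb, hbz⟩ := hg
  have hxy : x ≠ y := (ne_of_mem_of_not_mem (F.left_mem hyz) hx).symm
  set D := (F.U x y ⊓ F.U x z).subgroupOf (F.U x y) with hD
  haveI : D.Normal := F.normal_subgroupOf (F.U_le x y)
  let f : ↥(F.A x) →* ↥(F.U x y) :=
    MonoidHom.mk' (fun a => ⟨a.1 * b * a.1⁻¹ * b⁻¹, F.kappa_mem hxy a.2 hb⟩) (fun a c => by
      refine Subtype.ext ?_
      show (a : G) * c * b * ((a : G) * c)⁻¹ * b⁻¹ =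
        (a * b * (a : G)⁻¹ * b⁻¹) * (c * b * (c : G)⁻¹ * b⁻¹)
      have h1 := F.U_le _ _ (F.kappa_mem hxy a.2 hb)
      have h2 := F.U_le _ _ (F.kappa_mem hxy c.2 hb)
      rw [F.comm x _ h1 _ h2]
      calc (a : G) * c * b * ((a : G) * c)⁻¹ * b⁻¹
          = ((a : G) * (c * b * (c : G)⁻¹ * b⁻¹)) * (b * (a : G)⁻¹ * b⁻¹) := by group
        _ = ((c * b * (c : G)⁻¹ * b⁻¹) * (a : G)) * (b * (a : G)⁻¹ * b⁻¹) := by
            rw [F.comm x _ a.2 _ h2]
        _ = _ := by group)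
  let g := (QuotientGroup.mk' D).comp f
  have hker : g.ker ≤ (F.U x y).subgroupOf (F.A x) := by
    intro a ha
    rw [MonoidHom.mem_ker, MonoidHom.comp_apply, QuotientGroup.mk'_apply,
      QuotientGroup.eq_one_iff] at ha
    rw [Subgroup.mem_subgroupOf]
    refine F.mem_U.2 ⟨a.2, ?_⟩
    by_contra hay
    rw [hD, Subgroup.mem_subgroupOf] at ha
    exact F.kappa_moves hyz hx a.2 hay hb hbz (F.mem_U.1 ha.2).2
  have h1 : Nat.card (F.A x) = Nat.card g.range * Nat.card g.ker := by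
    rw [Subgroup.card_eq_card_quotient_mul_card_subgroup g.ker,
      Nat.card_congr (QuotientGroup.quotientKerEquivRange g).toEquiv]
  have h2 : Nat.card g.range ≤ Nat.card (↥(F.U x y) ⧸ D) := Subgroup.card_le_card_group _
  have h3 : Nat.card g.ker ≤ Nat.card (F.U x y) := by
    refine le_trans (Subgroup.card_le_of_le hker) (le_of_eq ?_)
    exact Nat.card_congr (Subgroup.subgroupOfEquivOfLe (F.U_le x y)).toEquiv
  have h4 : Nat.card (↥(F.U x y) ⧸ D) * Nat.card ↥(F.U x y ⊓ F.U x z) = Nat.card (F.U x y) := by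
    rw [Subgroup.card_eq_card_quotient_mul_card_subgroup D]
    congr 1
    exact (Nat.card_congr (Subgroup.subgroupOfEquivOfLe inf_le_left).toEquiv).symm
  rw [h1]
  calc Nat.card g.range * Nat.card g.ker * Nat.card ↥(F.U x y ⊓ F.U x z)
      ≤ Nat.card (↥(F.U x y) ⧸ D) * Nat.card (F.U x y) * Nat.card ↥(F.U x y ⊓ F.U x z) := by
        gcongr
    _ = _ := by rw [mul_right_comm, h4]

theorem product_eq {x y z : X} (hyz : y ≠ z) (hx : x ∉ F.L y z)
    (hg : ∃ b ∈ F.U y x, b • z ≠ z) :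
    Nat.card (F.A x) * Nat.card ↥(F.U x y ⊓ F.U x z) =
        Nat.card (F.U x y) * Nat.card (F.U x y) ∧
      ∀ a ∈ F.A x, ∃ u ∈ F.U x y, ∃ v ∈ F.U x z, u * v = a := by
  have hxy : x ≠ y := (ne_of_mem_of_not_mem (F.left_mem hyz) hx).symm
  have hxz : x ≠ z := (ne_of_mem_of_not_mem (F.right_mem hyz) hx).symm
  let f : ↥(F.U x y) × ↥(F.U x z) →* ↥(F.A x) :=
    MonoidHom.mk' (fun q => ⟨q.1.1 * q.2.1, (F.A x).mul_mem (F.U_le _ _ q.1.2) (F.U_le _ _ q.2.2)⟩)
      (fun q r => by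
        refine Subtype.ext ?_
        show (q.1 : G) * r.1 * ((q.2 : G) * r.2) = q.1 * q.2 * ((r.1 : G) * r.2)
        calc (q.1 : G) * r.1 * ((q.2 : G) * r.2) = q.1 * ((r.1 : G) * q.2) * r.2 := by group
          _ = q.1 * ((q.2 : G) * r.1) * r.2 := by
              rw [F.comm x _ (F.U_le _ _ r.1.2) _ (F.U_le _ _ q.2.2)]
          _ = _ := by group)
  have h1 : Nat.card (F.U x y) * Nat.card (F.U x y) = Nat.card f.range * Nat.card f.ker := by
    conv_lhs => arg 2; rw [F.card_U_eq hxz hxy]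
    rw [← Nat.card_prod, Subgroup.card_eq_card_quotient_mul_card_subgroup f.ker,
      Nat.card_congr (QuotientGroup.quotientKerEquivRange f).toEquiv]
  have h2 : Nat.card f.ker ≤ Nat.card ↥(F.U x y ⊓ F.U x z) := by
    refine Nat.card_le_card_of_injective (fun q => ⟨q.1.1.1, q.1.1.2, ?_⟩) ?_
    · have e : (q.1.1 : G) * q.1.2 = 1 := congrArg Subtype.val q.2
      rw [eq_inv_of_mul_eq_one_left e]
      exact (F.U x z).inv_mem q.1.2.2
    · rintro ⟨⟨⟨u, hu⟩, ⟨v, hv⟩⟩, hq⟩ ⟨⟨⟨u', hu'⟩, ⟨v', hv'⟩⟩, hq'⟩ e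
      obtain rfl : u = u' := congrArg Subtype.val e
      have e1 : u * v = 1 := congrArg Subtype.val hq
      have e2 : u * v' = 1 := congrArg Subtype.val hq'
      obtain rfl : v = v' := mul_left_cancel (e1.trans e2.symm)
      rfl
  have h3 : Nat.card f.range ≤ Nat.card (F.A x) := Subgroup.card_le_card_group _
  have h4 := F.card_A_mul_inf_le hyz hx hg
  have h5 : Nat.card (F.U x y) * Nat.card (F.U x y) ≤
      Nat.card (F.A x) * Nat.card ↥(F.U x y ⊓ F.U x z) := h1.le.trans (Nat.mul_le_mul h3 h2)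
  refine ⟨le_antisymm h4 h5, fun a ha => ?_⟩
  have htop : f.range = ⊤ := by
    apply Subgroup.eq_top_of_card_eq
    refine le_antisymm h3 ?_
    by_contra hlt
    push Not at hlt
    have : Nat.card f.range * Nat.card f.ker <
        Nat.card (F.A x) * Nat.card ↥(F.U x y ⊓ F.U x z) :=
      Nat.mul_lt_mul_of_lt_of_le hlt h2 Nat.card_pos
    omega
  obtain ⟨⟨u, v⟩, huv⟩ := (htop ▸ Subgroup.mem_top (⟨a, ha⟩ : ↥(F.A x)) :
    (⟨a, ha⟩ : ↥(F.A x)) ∈ f.range)
  exact ⟨u, u.2, v, v.2, congrArg Subtype.val huv⟩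

omit [Finite G] [FaithfulSMul G X] [Finite X] in
theorem ncard_L_eq {x y z w : X} (h : x ≠ y) (h' : z ≠ w) :
    (F.L z w).ncard = (F.L x y).ncard := by
  obtain ⟨g, rfl, rfl⟩ := F.move h h'
  refine (Set.ncard_congr (fun p _ => g • p) (fun p hp => F.smul_mem hp)
    (fun p q _ _ e => smul_left_cancel g e) (fun q hq => ⟨g⁻¹ • q, ?_, smul_inv_smul g q⟩)).symm
  rwa [← F.smul_mem_iff (g := g), smul_inv_smul]

theorem counting {x y z : X} (hyz : y ≠ z) (hx : x ∉ F.L y z)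
    (hg : ∃ b ∈ F.U y x, b • z ≠ z) :
    ((F.L y z).ncard - 1) * Nat.card (F.U x y) = Nat.card (F.A x) ∧
      ∀ a ∈ F.A x, ∃ w ∈ F.L y z, a • w = w := by
  classical
  have hxy : x ≠ y := (ne_of_mem_of_not_mem (F.left_mem hyz) hx).symm
  obtain ⟨hprod, -⟩ := F.product_eq hyz hx hg
  obtain ⟨c, hc, hcz⟩ := F.generic_symm hyz hx hg
  set D := F.U x y ⊓ F.U x z with hD
  set k := (F.L y z).ncard with hk
  set m := Nat.card (F.U x y) with hm
  set a := Nat.card (F.A x) with ha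
  set d := Nat.card D with hd
  have hd0 : 0 < d := Nat.card_pos
  have hdm : d < m := by
    by_contra hle
    push Not at hle
    have := Subgroup.eq_of_le_of_card_ge (inf_le_left : D ≤ F.U x y) hle
    exact hcz (F.mem_U.1 (this.ge hc).2).2
  let M := (Set.toFinite (F.L y z)).toFinset
  let P : X → Finset G := fun w =>
    (Set.toFinite ((F.U x w : Set G) \ (D : Set G))).toFinset
  have hcardP : ∀ w ∈ M, (P w).card = m - d := by
    intro w hw
    have hwL : w ∈ F.L y z := (Set.Finite.mem_toFinset _).1 hw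
    rw [← Set.ncard_eq_toFinset_card _,
      Set.ncard_sdiff (s := (D : Set G)) (F.U_le_of_mem hyz hwL) (Set.toFinite _),
      ← Nat.card_coe_set_eq, ← Nat.card_coe_set_eq]
    congr 1
    exact F.card_U_eq hxy (fun h => hx (h ▸ hwL))
  have hdisj : (M : Set X).PairwiseDisjoint P := by
    intro v hv w hw hvw
    rw [Function.onFun, Finset.disjoint_left]
    intro g hgv hgw
    rw [Set.Finite.mem_toFinset] at hgv hgw
    refine hgv.2 ?_
    rw [hD, ← F.inf_eq_of_mem hyz hvw ((Set.Finite.mem_toFinset _).1 hv)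
      ((Set.Finite.mem_toFinset _).1 hw)]
    exact ⟨hgv.1, hgw.1⟩
  have hsub : M.biUnion P ⊆ (Set.toFinite ((F.A x : Set G) \ (D : Set G))).toFinset := by
    intro g hg'
    rw [Finset.mem_biUnion] at hg'
    obtain ⟨w, -, hgw⟩ := hg'
    rw [Set.Finite.mem_toFinset] at hgw ⊢
    exact ⟨F.U_le _ _ hgw.1, hgw.2⟩
  have hcard2 : ((Set.toFinite ((F.A x : Set G) \ (D : Set G))).toFinset).card = a - d := by
    rw [← Set.ncard_eq_toFinset_card _,
      Set.ncard_sdiff (s := (D : Set G)) (inf_le_left.trans (F.U_le x y)) (Set.toFinite _),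
      ← Nat.card_coe_set_eq, ← Nat.card_coe_set_eq]
    rfl
  have hsum : (M.biUnion P).card = k * (m - d) := by
    rw [Finset.card_biUnion hdisj, Finset.sum_congr rfl hcardP, Finset.sum_const, smul_eq_mul,
      hk, Set.ncard_eq_toFinset_card _]
  have hle := Finset.card_le_card hsub
  rw [hsum, hcard2] at hle
  have hlow : a ≤ (k - 1) * m := by
    rw [ha, hm, hk, F.ncard_L_eq hxy hyz]
    exact F.card_A_le hxy
  have hk2 : 2 ≤ k := by
    rw [hk, ← Set.ncard_pair hyz]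
    refine Set.ncard_le_ncard ?_ (Set.toFinite _)
    rintro w (rfl | rfl)
    exacts [F.left_mem hyz, F.right_mem hyz]
  obtain ⟨j, hj⟩ : ∃ j, k = j + 1 := ⟨k - 1, by omega⟩
  obtain ⟨t, ht⟩ : ∃ t, m = d + t := ⟨m - d, by omega⟩
  have hprod' : a * d = m * m := hprod
  have hma : m ≤ a := by
    rw [hm, ha]; exact Subgroup.card_le_of_le (F.U_le x y)
  have hle' : k * t + d ≤ a := by
    have : m - d = t := by omega
    rw [this] at hle
    omega
  rw [hj, Nat.add_sub_cancel] at hlow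
  have h1 : k * t * d + d * d ≤ m * m := by
    calc k * t * d + d * d = (k * t + d) * d := by ring
      _ ≤ a * d := Nat.mul_le_mul_right _ hle'
      _ = m * m := hprod'
  have h2 : j * d ≤ m := by
    have ht0 : 0 < t := by omega
    refine Nat.le_of_mul_le_mul_left ?_ ht0
    rw [hj, ht] at h1
    rw [ht]
    nlinarith
  have h3 : m ≤ j * d := by
    refine Nat.le_of_mul_le_mul_left ?_ (show 0 < m by omega)
    calc m * m = a * d := hprod'.symm
      _ ≤ j * m * d := Nat.mul_le_mul_right _ hlow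
      _ = m * (j * d) := by ring
  have hjd : j * d = m := le_antisymm h2 h3
  have haj : a = j * m := by
    refine Nat.eq_of_mul_eq_mul_right hd0 ?_
    calc a * d = m * m := hprod'
      _ = m * (j * d) := by rw [hjd]
      _ = j * m * d := by ring
  refine ⟨by rw [hj, Nat.add_sub_cancel]; exact haj.symm, fun g hgA => ?_⟩
  by_cases hgD : g ∈ D
  · exact ⟨y, F.left_mem hyz, (F.mem_U.1 hgD.1).2⟩
  have heq : M.biUnion P = (Set.toFinite ((F.A x : Set G) \ (D : Set G))).toFinset := by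
    refine Finset.eq_of_subset_of_card_le hsub ?_
    rw [hsum, hcard2]
    have e1 : m - d = t := by omega
    have e2 : a = k * t + d := by
      refine Nat.eq_of_mul_eq_mul_right hd0 ?_
      rw [hprod', hj, ht]
      have e3 : j * d = d + t := by rw [hjd, ht]
      calc (d + t) * (d + t) = d * d + t * d + t * (d + t) := by ring
        _ = d * d + t * d + t * (j * d) := by rw [e3]
        _ = ((j + 1) * t + d) * d := by ring
    rw [e1]
    omega
  have hgmem : g ∈ M.biUnion P := by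
    rw [heq, Set.Finite.mem_toFinset]; exact ⟨hgA, hgD⟩
  obtain ⟨w, hw, hgw⟩ := Finset.mem_biUnion.1 hgmem
  rw [Set.Finite.mem_toFinset] at hgw
  exact ⟨w, (Set.Finite.mem_toFinset _).1 hw, (F.mem_U.1 hgw.1).2⟩

theorem exists_generic {x y : X} (hxy : x ≠ y) :
    ∃ z, y ≠ z ∧ x ∉ F.L y z ∧ ∃ b ∈ F.U x y, b • z ≠ z := by
  obtain ⟨b, hb, hb1⟩ := F.exists_U_ne_one hxy
  obtain ⟨z, hz⟩ : ∃ z : X, b • z ≠ z := by
    by_contra hc
    push Not at hc
    exact hb1 (eq_of_smul_eq_smul fun w : X => by rw [one_smul]; exact hc w)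
  have hyz : y ≠ z := by rintro rfl; exact hz (F.mem_U.1 hb).2
  refine ⟨z, hyz, fun hx => hz (F.U_fix hxy ?_ hb), b, hb, hz⟩
  rw [F.line_eq hyz hxy hx (F.left_mem hyz)]
  exact F.right_mem hyz

theorem card_line_mul {x y : X} (hxy : x ≠ y) :
    ((F.L x y).ncard - 1) * Nat.card (F.U x y) = Nat.card (F.A x) := by
  haveI := F.nontrivial
  obtain ⟨z, hyz, hx, hb⟩ := F.exists_generic hxy
  have hxz : x ≠ z := (ne_of_mem_of_not_mem (F.right_mem hyz) hx).symm
  -- the generic triangle is `y, x, z`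
  have hy : y ∉ F.L x z := by
    intro hy'
    exact hx (F.line_eq hxz hyz hy' (F.right_mem hxz) ▸ F.left_mem hxz)
  obtain ⟨h, -⟩ := F.counting hxz hy hb
  rwa [F.ncard_L_eq hxy hxz, F.card_U_eq hxy hxy.symm, F.card_A_eq x y] at h

/-- `A x` is transitive on the points other than `x` of a line through `x`. -/
theorem exists_smul_eq {x y z : X} (hxy : x ≠ y) (hz : z ∈ F.L x y) (hxz : x ≠ z) :
    ∃ a ∈ F.A x, a • y = z := by
  have hcard : (F.L x y \ {x}).ncard ≤ (MulAction.orbit (F.A x) y).ncard := by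
    refine Nat.le_of_mul_le_mul_right (le_of_eq ?_) (Nat.card_pos (α := F.U x y))
    rw [Set.ncard_sdiff_singleton_of_mem (F.left_mem hxy), F.card_line_mul hxy,
      ← Nat.card_coe_set_eq, F.card_orbit_mul]
  have hz' : z ∈ MulAction.orbit (F.A x) y := by
    rw [Set.eq_of_subset_of_ncard_le (F.orbit_subset hxy) hcard]
    exact ⟨hz, fun h => hxz h.symm⟩
  obtain ⟨⟨a, ha⟩, hay⟩ := hz'
  exact ⟨a, ha, hay⟩

theorem exists_third {x y : X} (hxy : x ≠ y) : ∃ z ∈ F.L x y, z ≠ x ∧ z ≠ y := by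
  obtain ⟨a, ha, hay⟩ := F.exists_moved hxy
  exact ⟨a • y, F.central hxy ha, F.smul_ne_centre hxy ha, hay⟩

end Fam

end Cfsg.Agent.ONanElation
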