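import Mathlib

/-!
# Symmetric designs with two-transitive groups: automorphisms fixing a block pointwise

An automorphism fixing a block pointwise has at most one further fixed point, two such kernels meet
trivially, and the blocks containing the intersection of two blocks form the lines of a linear space
on the blocks.
-/

set_option autoImplicit false

open MulAction

namespace Cfsg.Agent.ONanElation

/-- A symmetric design with an automorphism group two-transitive on blocks. -/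
structure Design (G Ω Y : Type*) [Group G] [MulAction G Ω] [MulAction G Y] where
  /-- Incidence. -/
  I : Ω → Y → Prop
  two : IsMultiplyPretransitive G Y 2
  trans_off : ∀ (y : Y) (a b : Ω), ¬ I a y → ¬ I b y → ∃ h : G, h • y = y ∧ h • a = b
  equiv : ∀ (g : G) (a : Ω) (y : Y), I (g • a) (g • y) ↔ I a y
  card_eq : ∀ g : G, Nat.card (fixedBy Y g) = Nat.card (fixedBy Ω g)
  card_pts : Nat.card Y = Nat.card Ω
  k : ℕ
  lam : ℕ
  block_card : ∀ y, {a | I a y}.ncard = k
  point_card : ∀ a, {y | I a y}.ncard = k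
  block_inter : ∀ y y', y ≠ y' → {a | I a y ∧ I a y'}.ncard = lam
  pair : ∀ a b, a ≠ b → {y | I a y ∧ I b y}.ncard = lam
  lam_pos : 0 < lam
  gap : lam + 2 ≤ k
  count : lam * (Nat.card Ω - 1) = k * (k - 1)

variable {G Ω Y : Type*} [Group G] [MulAction G Ω] [MulAction G Y] (D : Design G Ω Y)

namespace Design

/-- The elements fixing every point of a block. -/
def Ker (B : Y) : Subgroup G := fixingSubgroup G {a : Ω | D.I a B}

theorem mem_Ker {B : Y} {g : G} : g ∈ D.Ker B ↔ ∀ a, D.I a B → g • a = a := by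
  simp [Ker, mem_fixingSubgroup_iff]

/-- The line through two blocks: the blocks containing their intersection. -/
def L (B C : Y) : Set Y := {E | ∀ a, D.I a B → D.I a C → D.I a E}

theorem left_mem (B C : Y) : B ∈ D.L B C := fun _ h _ => h

theorem right_mem (B C : Y) : C ∈ D.L B C := fun _ _ h => h

theorem L_symm (B C : Y) : D.L C B = D.L B C :=
  Set.ext fun _ => ⟨fun h a h1 h2 => h a h2 h1, fun h a h1 h2 => h a h2 h1⟩

theorem smul_mem_iff {g : G} {B C E : Y} : g • E ∈ D.L (g • B) (g • C) ↔ E ∈ D.L B C := by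
  constructor
  · intro h a h1 h2
    exact (D.equiv g a E).1 (h _ ((D.equiv g a B).2 h1) ((D.equiv g a C).2 h2))
  · intro h a h1 h2
    rw [← smul_inv_smul g a, D.equiv] at h1 h2 ⊢
    exact h _ h1 h2

include D in
theorem nontrivial_blocks [Finite Ω] : Nontrivial Y := by
  have hc := D.count
  have hg := D.gap
  rcases le_or_gt (Nat.card Ω) 1 with h | h
  · exfalso
    rw [Nat.sub_eq_zero_of_le h, mul_zero, eq_comm, mul_eq_zero] at hc
    omega
  · haveI : Finite Y := Nat.finite_of_card_ne_zero (by rw [D.card_pts]; omega)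
    exact Finite.one_lt_card_iff_nontrivial.1 (by rw [D.card_pts]; exact h)

variable [Finite Ω] [Finite Y]

theorem core_eq {B C E F : Y} (hBC : B ≠ C) (hEF : E ≠ F) (hE : E ∈ D.L B C)
    (hF : F ∈ D.L B C) : {a | D.I a B ∧ D.I a C} = {a | D.I a E ∧ D.I a F} :=
  Set.eq_of_subset_of_ncard_le (fun a ha => ⟨hE a ha.1 ha.2, hF a ha.1 ha.2⟩)
    (by rw [D.block_inter _ _ hBC, D.block_inter _ _ hEF]) (Set.toFinite _)

theorem line_eq {B C E F : Y} (hBC : B ≠ C) (hEF : E ≠ F) (hE : E ∈ D.L B C)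
    (hF : F ∈ D.L B C) : D.L E F = D.L B C := by
  have h := D.core_eq hBC hEF hE hF
  ext Q
  constructor
  · intro hQ a h1 h2
    have : a ∈ {a | D.I a E ∧ D.I a F} := h ▸ ⟨h1, h2⟩
    exact hQ a this.1 this.2
  · intro hQ a h1 h2
    have : a ∈ {a | D.I a B ∧ D.I a C} := h.symm ▸ ⟨h1, h2⟩
    exact hQ a this.1 this.2

theorem meet_eq {A B C E P Q : Y} (hAB : A ≠ B) (hCE : C ≠ E) (hne : D.L A B ≠ D.L C E)
    (hP : P ∈ D.L A B) (hP' : P ∈ D.L C E) (hQ : Q ∈ D.L A B) (hQ' : Q ∈ D.L C E) : P = Q := by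
  by_contra h
  exact hne ((D.line_eq hAB h hP hQ).symm.trans (D.line_eq hCE h hP' hQ'))

omit [Finite Ω] [Finite Y] in
theorem ncard_L_eq {B C E F : Y} (hBC : B ≠ C) (hEF : E ≠ F) :
    (D.L E F).ncard = (D.L B C).ncard := by
  obtain ⟨g, rfl, rfl⟩ := is_two_pretransitive_iff.1 D.two hBC hEF
  refine (Set.ncard_congr (fun p _ => g • p) (fun p hp => D.smul_mem_iff.2 hp)
    (fun p q _ _ e => smul_left_cancel g e) (fun q hq => ⟨g⁻¹ • q, ?_, smul_inv_smul g q⟩)).symm
  rwa [← D.smul_mem_iff (g := g), smul_inv_smul]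

omit [Finite Y] in
theorem ker_smul {B : Y} {g : G} (hg : g ∈ D.Ker B) : g • B = B := by
  by_contra h
  have h1 : {a | D.I a B} ⊆ {a | D.I a (g • B) ∧ D.I a B} := fun a ha => by
    refine ⟨?_, ha⟩
    rw [← D.mem_Ker.1 hg a ha, D.equiv]
    exact ha
  have h2 := Set.ncard_le_ncard h1 (Set.toFinite _)
  rw [D.block_card, D.block_inter _ _ h] at h2
  have := D.gap
  omega

omit [Finite Y] in
theorem ker_core {B C : Y} {g : G} (hg : g ∈ D.Ker B) (hgC : g • C ≠ C) {a : Ω}
    (h1 : D.I a C) (h2 : D.I a (g • C)) : D.I a B := by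
  have hCB : C ≠ B := fun e => hgC (e ▸ D.ker_smul hg)
  have hsub : {a | D.I a C ∧ D.I a B} ⊆ {a | D.I a (g • C) ∧ D.I a C} := fun b hb => by
    refine ⟨?_, hb.1⟩
    rw [← D.mem_Ker.1 hg b hb.2, D.equiv]
    exact hb.1
  have he := Set.eq_of_subset_of_ncard_le hsub
    (by rw [D.block_inter _ _ hgC, D.block_inter _ _ hCB]) (Set.toFinite _)
  have : a ∈ {a | D.I a C ∧ D.I a B} := he.symm ▸ ⟨h2, h1⟩
  exact this.2

omit [Finite Y] in
theorem ker_extra {B C : Y} {g : G} (hg : g ∈ D.Ker B) {a : Ω} (ha : ¬ D.I a B) (hga : g • a = a)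
    (hC : D.I a C) : g • C = C := by
  by_contra h
  refine ha (D.ker_core hg h hC ?_)
  rw [← hga, D.equiv]
  exact hC

theorem ker_line {B E : Y} {g : G} (hg : g ∈ D.Ker B) : g • E ∈ D.L B E := fun a h1 h2 => by
  rw [← D.mem_Ker.1 hg a h1, D.equiv]
  exact h2

/-- The blocks fixed by an element through a moved point are those through it and its image. -/
theorem fixed_through {B C : Y} {g : G} (hg : g ∈ D.Ker B) {P : Ω} (hP : ¬ D.I P B)
    (hgP : g • P ≠ P) : (D.I P C ∧ g • C = C) ↔ (D.I P C ∧ D.I (g • P) C) := by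
  refine and_congr_right fun hPC => ⟨fun h => ?_, fun h => ?_⟩
  · rw [← h, D.equiv]; exact hPC
  · by_contra hC
    have h' : D.I (g • P) B := D.ker_core hg hC h ((D.equiv g P C).2 hPC)
    exact hgP (smul_left_cancel g (D.mem_Ker.1 hg _ h'))

variable [FaithfulSMul G Ω]

/-- An element fixing a block pointwise fixes at most one point off it. -/
theorem ker_extra_unique {B : Y} {g : G} (hg : g ∈ D.Ker B) (hg1 : g ≠ 1) {R R' : Ω}
    (hR : ¬ D.I R B) (hR' : ¬ D.I R' B) (hgR : g • R = R) (hgR' : g • R' = R') : R = R' := by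
  by_contra hne
  obtain ⟨C₁, hC₁⟩ : {y | D.I R y ∧ D.I R' y}.Nonempty := by
    refine Set.nonempty_of_ncard_ne_zero ?_
    rw [D.pair _ _ hne]
    exact D.lam_pos.ne'
  have hmoved : ∀ P, g • P ≠ P → D.I P C₁ := by
    intro P hgP
    have hP : ¬ D.I P B := fun h => hgP (D.mem_Ker.1 hg P h)
    have key : ∀ S : Ω, ¬ D.I S B → g • S = S →
        {C | D.I P C ∧ D.I S C} = {C | D.I P C ∧ D.I (g • P) C} := fun S hS hgS => by
      refine Set.eq_of_subset_of_ncard_le (fun C hC => ?_) ?_ (Set.toFinite _)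
      · exact (D.fixed_through hg hP hgP).1 ⟨hC.1, D.ker_extra hg hS hgS hC.2⟩
      · rw [D.pair P S (fun e => hgP (by rw [e, hgS])), D.pair P (g • P) (Ne.symm hgP)]
    have h3 : {C | D.I P C ∧ D.I R C} = {C | D.I R C ∧ D.I R' C} := by
      refine Set.eq_of_subset_of_ncard_le (fun C hC => ⟨hC.2, ?_⟩) ?_ (Set.toFinite _)
      · have : C ∈ {C | D.I P C ∧ D.I R' C} := by
          rw [key R' hR' hgR', ← key R hR hgR]; exact hC
        exact this.2
      · rw [D.pair P R (fun e => hgP (by rw [e, hgR])), D.pair R R' hne]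
    have : C₁ ∈ {C | D.I P C ∧ D.I R C} := h3.symm ▸ hC₁
    exact this.1
  obtain ⟨E, hE⟩ : ∃ E : Y, g • E ≠ E := by
    by_contra hc
    push Not at hc
    apply hg1
    refine eq_of_smul_eq_smul fun a : Ω => ?_
    rw [one_smul]
    have hall : fixedBy Y g = Set.univ := Set.eq_univ_of_forall fun y => hc y
    have h := D.card_eq g
    rw [hall, Nat.card_coe_set_eq, Nat.card_coe_set_eq, Set.ncard_univ, D.card_pts,
      ← Set.ncard_univ] at h
    have := Set.eq_of_subset_of_ncard_le (Set.subset_univ (fixedBy Ω g)) h.le (Set.toFinite _)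
    exact (this.symm ▸ Set.mem_univ a : a ∈ fixedBy Ω g)
  have hEB : E ≠ B := fun e => hE (e ▸ D.ker_smul hg)
  have hC₁B : C₁ ≠ B := fun e => hR (e ▸ hC₁.1)
  have hsub : {a | D.I a E} \ {a | D.I a E ∧ D.I a B} ⊂
      {a | D.I a C₁} \ {a | D.I a C₁ ∧ D.I a B} := by
    refine (Set.ssubset_iff_of_subset ?_).2 ⟨R, ⟨hC₁.1, fun h => hR h.2⟩, ?_⟩
    · rintro a ⟨haE, haB⟩
      have haB' : ¬ D.I a B := fun h => haB ⟨haE, h⟩
      exact ⟨hmoved a fun h => hE (D.ker_extra hg haB' h haE), fun h => haB' h.2⟩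
    · rintro ⟨hRE, -⟩
      exact hE (D.ker_extra hg hR hgR hRE)
  have hlt := Set.ncard_lt_ncard hsub (Set.toFinite _)
  rw [Set.ncard_sdiff (fun a h => h.1) (Set.toFinite _),
    Set.ncard_sdiff (fun a h => h.1) (Set.toFinite _), D.block_card, D.block_card,
    D.block_inter _ _ hEB, D.block_inter _ _ hC₁B] at hlt
  omega

theorem ker_inf {B C : Y} (hBC : B ≠ C) {g : G} (hB : g ∈ D.Ker B) (hC : g ∈ D.Ker C) : g = 1 := by
  by_contra hg1
  have h1 : 2 ≤ ({a | D.I a C} \ {a | D.I a C ∧ D.I a B}).ncard := by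
    rw [Set.ncard_sdiff (fun a h => h.1) (Set.toFinite _), D.block_card,
      D.block_inter _ _ hBC.symm]
    have := D.gap
    omega
  obtain ⟨R, hR, R', hR', hne⟩ := (Set.one_lt_ncard (Set.toFinite _)).1 h1
  exact hne (D.ker_extra_unique hB hg1 (fun h => hR.2 ⟨hR.1, h⟩) (fun h => hR'.2 ⟨hR'.1, h⟩)
    (D.mem_Ker.1 hC R hR.1) (D.mem_Ker.1 hC R' hR'.1))

omit [Finite Ω] [Finite Y] [FaithfulSMul G Ω] in
theorem conj_ker {B : Y} {g m : G} (hm : m ∈ D.Ker B) : g * m * g⁻¹ ∈ D.Ker (g • B) := by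
  refine D.mem_Ker.2 fun a ha => ?_
  rw [← smul_inv_smul g a, D.equiv] at ha
  rw [mul_smul, mul_smul, D.mem_Ker.1 hm _ ha, smul_inv_smul]

end Design

end Cfsg.Agent.ONanElation
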