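import Cfsg.Agent.Lib.ONanElation.Dual

/-!
# An abelian normal subgroup of the stabiliser in the second representation
-/

set_option autoImplicit false

open MulAction
open scoped commutatorElement

namespace Cfsg.Agent.ONanElation.Dual

variable {G Ω : Type*} [Group G] [Finite G] [MulAction G Ω] [Finite Ω]

theorem faithful_quotient [FaithfulSMul G Ω] (h2 : MulAction.IsMultiplyPretransitive G Ω 2)
    (H : Subgroup G) (hidx : H.index = Nat.card Ω) (hnt : ¬ MulAction.IsPretransitive H Ω)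
    (hfix : ∀ a : Ω, ∃ h : H, h • a ≠ a) : FaithfulSMul G (G ⧸ H) := by
  classical
  refine ⟨fun {g₁ g₂} h => inv_mul_eq_one.1 (eq_of_smul_eq_smul (α := Ω) fun a => ?_)⟩
  rw [one_smul]
  set g := g₁⁻¹ * g₂ with hg
  have hall : fixedBy (G ⧸ H) g = Set.univ := Set.eq_univ_of_forall fun q => by
    rw [mem_fixedBy, hg, mul_smul, ← h q, inv_smul_smul]
  have hc := card_fixedBy_quotient h2 H hidx hnt hfix g
  rw [hall, Nat.card_coe_set_eq, Set.ncard_univ, Nat.card_coe_set_eq,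
    ← Subgroup.index_eq_card, hidx, eq_comm, ← Set.ncard_univ] at hc
  have : fixedBy Ω g = Set.univ :=
    Set.eq_of_subset_of_ncard_le (Set.subset_univ _) hc.ge (Set.toFinite _)
  have ha : a ∈ fixedBy Ω g := this ▸ Set.mem_univ a
  exact ha

theorem two_quotient (h2 : MulAction.IsMultiplyPretransitive G Ω 2)
    (H : Subgroup G) (hidx : H.index = Nat.card Ω) (hnt : ¬ MulAction.IsPretransitive H Ω)
    (hfix : ∀ a : Ω, ∃ h : H, h • a ≠ a) (a : Ω) :
    MulAction.IsMultiplyPretransitive G (G ⧸ H) 2 := by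
  obtain ⟨h, hh⟩ := hfix a
  haveI : Nontrivial Ω := ⟨⟨h • a, a, hh⟩⟩
  apply two_of_card_orbits_prod
  rw [card_orbits_prod_eq (card_fixedBy_quotient h2 H hidx hnt hfix), card_orbits_prod_eq_two h2]

theorem exists_nonsemiregular (h2 : MulAction.IsMultiplyPretransitive G Ω 2) (H : Subgroup G)
    (hidx : H.index = Nat.card Ω) (hnt : ¬ MulAction.IsPretransitive H Ω)
    (hfix : ∀ a : Ω, ∃ h : H, h • a ≠ a) (N : Subgroup H) (hN : N.Normal) (hN1 : N ≠ ⊥)
    (hsol : Group.IsSolvable N) (hNfix : ∃ a : Ω, ∀ x ∈ N, x • a = a) :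
    ∃ M : Subgroup G, M ≤ stabilizer G ((1 : G) : G ⧸ H) ∧
      (∀ g ∈ stabilizer G ((1 : G) : G ⧸ H), ∀ n ∈ M, g * n * g⁻¹ ∈ M) ∧
      (∀ a ∈ M, ∀ b ∈ M, a * b = b * a) ∧
      ∃ n ∈ M, n ≠ 1 ∧ ∃ y : G ⧸ H, y ≠ ((1 : G) : G ⧸ H) ∧ n • y = y := by
  classical
  haveI := hN
  haveI : Nontrivial ↥N := (Subgroup.nontrivial_iff_ne_bot N).2 hN1
  -- the last nontrivial term of the derived series of `N`
  have hex : ∃ m, derivedSeries ↥N m = ⊥ := (Group.isSolvable_def ↥N).1 hsol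
  have h0 : Nat.find hex ≠ 0 := fun h => by
    have := Nat.find_spec hex
    rw [h, derivedSeries_zero] at this
    exact top_ne_bot this
  obtain ⟨k, hk⟩ := Nat.exists_eq_succ_of_ne_zero h0
  set B := derivedSeries ↥N k with hB
  have hB1 : B ≠ ⊥ := Nat.find_min hex (by omega)
  have hBab : ∀ x ∈ B, ∀ y ∈ B, x * y = y * x := fun x hx y hy => by
    have h1 : ⁅x, y⁆ ∈ derivedSeries ↥N (k + 1) := Subgroup.commutator_mem_commutator hx hy
    rw [show k + 1 = Nat.find hex from hk.symm, Nat.find_spec hex, Subgroup.mem_bot] at h1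
    exact commutatorElement_eq_one_iff_mul_comm.1 h1
  haveI : B.Characteristic := derivedSeries_characteristic ↥N k
  have hC : (B.map N.subtype).Normal := ConjAct.normal_of_characteristic_of_normal
  have hstab : stabilizer G ((1 : G) : G ⧸ H) = H := by
    ext g
    rw [mem_stabilizer_iff, MulAction.Quotient.smul_mk, smul_eq_mul, mul_one, QuotientGroup.eq,
      mul_one, inv_mem_iff]
  refine ⟨(B.map N.subtype).map H.subtype, ?_, ?_, ?_, ?_⟩
  · rw [hstab]; exact Subgroup.map_subtype_le _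
  · rw [hstab]
    rintro g hg _ ⟨m, hm, rfl⟩
    exact ⟨⟨g, hg⟩ * m * ⟨g, hg⟩⁻¹, hC.conj_mem m hm ⟨g, hg⟩, rfl⟩
  · rintro _ ⟨_, ⟨a, ha, rfl⟩, rfl⟩ _ ⟨_, ⟨b, hb, rfl⟩, rfl⟩
    exact congrArg (fun z : ↥N => ((z : ↥H) : G)) (hBab a ha b hb)
  · obtain ⟨b, hb, hb1⟩ := (Subgroup.bot_or_exists_ne_one B).resolve_left hB1
    set n : G := ((b : ↥H) : G) with hn
    have hn1 : n ≠ 1 := fun e => hb1 (Subtype.ext (Subtype.ext e))
    refine ⟨n, ⟨_, ⟨b, hb, rfl⟩, rfl⟩, hn1, ?_⟩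
    obtain ⟨a, ha⟩ := hNfix
    obtain ⟨h, hh⟩ := hfix a
    have hfix_a : n • a = a := ha b b.2
    have hfix_ha : n • (h • a) = h • a := by
      have hc := ha _ (hN.conj_mem (b : ↥H) b.2 h⁻¹)
      rw [inv_inv, mul_smul, mul_smul, inv_smul_eq_iff] at hc
      exact hc
    have hone : 1 < (fixedBy (G ⧸ H) n).ncard := by
      rw [← Nat.card_coe_set_eq, card_fixedBy_quotient h2 H hidx hnt hfix n, Nat.card_coe_set_eq,
        Set.one_lt_ncard]
      exact ⟨_, hfix_ha, _, hfix_a, hh⟩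
    obtain ⟨y, hy, hyne⟩ := Set.exists_ne_of_one_lt_ncard hone ((1 : G) : G ⧸ H)
    exact ⟨y, hyne, hy⟩

end Cfsg.Agent.ONanElation.Dual
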