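import Cfsg.Agent.Lib.ONanElation.Design
import Cfsg.Agent.Lib.ONanElation.Second

/-!
# The symmetric design of an intransitive subgroup of index `n`
-/

set_option autoImplicit false

open MulAction

namespace Cfsg.Agent.ONanElation

theorem pair_count {α β : Type*} [Finite α] [Finite β] (R : α → β → Prop) {k lam : ℕ} (b₀ : α)
    (hrow : {y | R b₀ y}.ncard = k) (hcol : ∀ y, {a | R a y}.ncard = k)
    (hlam : ∀ a, a ≠ b₀ → {y | R b₀ y ∧ R a y}.ncard = lam) :
    lam * (Nat.card α - 1) = k * (k - 1) := by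
  classical
  haveI := Fintype.ofFinite α
  haveI := Fintype.ofFinite β
  have h := Finset.sum_comm (s := (Finset.univ : Finset α).erase b₀)
    (t := (Finset.univ : Finset β)) (f := fun a y => if R b₀ y ∧ R a y then 1 else 0)
  simp only [Finset.sum_boole, Nat.cast_id] at h
  have h1 : ∀ a ∈ (Finset.univ : Finset α).erase b₀,
      (Finset.univ.filter fun y => R b₀ y ∧ R a y).card = lam := fun a ha => by
    rw [← hlam a (Finset.ne_of_mem_erase ha), ← Set.ncard_coe_finset]
    simp
  have h2 : ∀ y : β, (((Finset.univ : Finset α).erase b₀).filter fun a => R b₀ y ∧ R a y).card =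
      if R b₀ y then k - 1 else 0 := fun y => by
    split_ifs with hy
    · rw [← hcol y, ← Set.ncard_sdiff_singleton_of_mem (show b₀ ∈ {a | R a y} from hy),
        ← Set.ncard_coe_finset]
      congr 1
      ext a
      simp [hy, and_comm]
    · rw [Finset.card_eq_zero, Finset.filter_eq_empty_iff]
      exact fun a _ h => hy h.1
  rw [Finset.sum_congr rfl h1, Finset.sum_congr rfl (fun y _ => h2 y), Finset.sum_const,
    Finset.card_erase_of_mem (Finset.mem_univ _), Finset.card_univ, smul_eq_mul, ← Finset.sum_filter,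
    Finset.sum_const, smul_eq_mul] at h
  rw [Nat.card_eq_fintype_card, mul_comm, h, ← hrow, ← Set.ncard_coe_finset]
  simp

variable {G Ω : Type*} [Group G] [MulAction G Ω]

/-- The blocks: translates of an orbit of `H`. -/
def blockRel (H : Subgroup G) (a : Ω) (b : Ω) (y : G ⧸ H) : Prop :=
  ∃ g : G, (g : G ⧸ H) = y ∧ g⁻¹ • b ∈ orbit H a

theorem blockRel_mk {H : Subgroup G} {a b : Ω} {g : G} :
    blockRel H a b (g : G ⧸ H) ↔ g⁻¹ • b ∈ orbit H a := by
  refine ⟨?_, fun h => ⟨g, rfl, h⟩⟩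
  rintro ⟨g', hg', ⟨c, hc⟩⟩
  refine ⟨⟨g⁻¹ * g', QuotientGroup.eq.1 hg'.symm⟩ * c, ?_⟩
  show (⟨g⁻¹ * g', _⟩ * c : ↥H) • a = g⁻¹ • b
  rw [mul_smul, show c • a = g'⁻¹ • b from hc]
  show (g⁻¹ * g') • g'⁻¹ • b = g⁻¹ • b
  rw [← mul_smul, mul_assoc, mul_inv_cancel, mul_one]

theorem blockRel_smul {H : Subgroup G} {a b : Ω} {g : G} {y : G ⧸ H} :
    blockRel H a (g • b) (g • y) ↔ blockRel H a b y := by
  obtain ⟨k, rfl⟩ := QuotientGroup.mk_surjective y
  rw [show g • (k : G ⧸ H) = ((g * k : G) : G ⧸ H) from rfl, blockRel_mk, blockRel_mk,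
    _root_.mul_inv_rev, mul_smul, inv_smul_smul]

variable [Finite G] [Finite Ω]

theorem ncard_block (H : Subgroup G) (a : Ω) (y : G ⧸ H) :
    {b | blockRel H a b y}.ncard = (orbit H a).ncard := by
  obtain ⟨g, rfl⟩ := QuotientGroup.mk_surjective y
  refine Set.ncard_congr (fun b _ => g⁻¹ • b) (fun b hb => blockRel_mk.1 hb)
    (fun b b' _ _ e => smul_left_cancel _ e) (fun c hc => ⟨g • c, ?_, inv_smul_smul g c⟩)
  exact blockRel_mk.2 (by rwa [inv_smul_smul])

variable [FaithfulSMul G Ω]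

/-- The design of an intransitive subgroup of index `n`. -/
theorem exists_design (h2 : MulAction.IsMultiplyPretransitive G Ω 2) (H : Subgroup G)
    (hidx : H.index = Nat.card Ω) (hnt : ¬ MulAction.IsPretransitive H Ω)
    (hfix : ∀ a : Ω, ∃ h : H, h • a ≠ a) (a : Ω) :
    ∃ D : Design G Ω (G ⧸ H), ∀ b, D.I b ((1 : G) : G ⧸ H) ↔ b ∈ orbit H a := by
  classical
  haveI := Fintype.ofFinite Ω
  haveI := Fintype.ofFinite G
  haveI := Fintype.ofFinite (G ⧸ H)
  obtain ⟨h₀, hh₀⟩ := hfix a
  haveI : Nontrivial Ω := ⟨⟨h₀ • a, a, hh₀⟩⟩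
  haveI := h2
  haveI : IsPretransitive G Ω := isPretransitive_of_is_two_pretransitive
  haveI h2' := Dual.two_quotient h2 H hidx hnt hfix a
  have hYcard : Nat.card (G ⧸ H) = Nat.card Ω := by rw [← Subgroup.index_eq_card, hidx]
  set k := (orbit H a).ncard with hk
  have hk2 : 2 ≤ k := by
    rw [hk, ← Set.ncard_pair hh₀]
    refine Set.ncard_le_ncard ?_ (Set.toFinite _)
    rintro b (rfl | rfl)
    exacts [⟨h₀, rfl⟩, mem_orbit_self b]
  -- replication number
  have hr_const : ∀ b c : Ω, {y | blockRel H a b y}.ncard = {y | blockRel H a c y}.ncard := by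
    intro b c
    obtain ⟨g, rfl⟩ := exists_smul_eq G b c
    refine Set.ncard_congr (fun y _ => g • y) (fun y hy => blockRel_smul.2 hy)
      (fun y y' _ _ e => smul_left_cancel g e) (fun y hy => ⟨g⁻¹ • y, ?_, smul_inv_smul g y⟩)
    show blockRel H a b (g⁻¹ • y)
    rw [← blockRel_smul (g := g), smul_inv_smul]
    exact hy
  have hrep : ∀ b : Ω, {y | blockRel H a b y}.ncard = k := by
    intro b
    have h := Finset.sum_comm (s := (Finset.univ : Finset Ω))
      (t := (Finset.univ : Finset (G ⧸ H))) (f := fun c y => if blockRel H a c y then 1 else 0)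
    simp only [Finset.sum_boole, Nat.cast_id] at h
    have h1 : ∀ c : Ω, (Finset.univ.filter fun y => blockRel H a c y).card =
        {y | blockRel H a b y}.ncard := fun c => by
      rw [hr_const b c, ← Set.ncard_coe_finset]; simp
    have h3 : ∀ y : G ⧸ H, (Finset.univ.filter fun c => blockRel H a c y).card = k := fun y => by
      rw [hk, ← ncard_block H a y, ← Set.ncard_coe_finset]; simp
    rw [Finset.sum_congr rfl (fun c _ => h1 c), Finset.sum_congr rfl (fun y _ => h3 y),
      Finset.sum_const, Finset.sum_const, Finset.card_univ, Finset.card_univ, smul_eq_mul,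
      smul_eq_mul, ← Nat.card_eq_fintype_card, ← Nat.card_eq_fintype_card, hYcard] at h
    exact Nat.eq_of_mul_eq_mul_left Nat.card_pos h
  -- pair numbers
  obtain ⟨u, w, huw⟩ := exists_pair_ne Ω
  set lam := {y | blockRel H a u y ∧ blockRel H a w y}.ncard with hlam
  have hpair : ∀ b c : Ω, b ≠ c → {y | blockRel H a b y ∧ blockRel H a c y}.ncard = lam := by
    intro b c hbc
    obtain ⟨g, rfl, rfl⟩ := is_two_pretransitive_iff.1 h2 huw hbc
    refine Eq.symm (Set.ncard_congr (fun y _ => g • y)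
      (fun y hy => ⟨blockRel_smul.2 hy.1, blockRel_smul.2 hy.2⟩)
      (fun y y' _ _ e => smul_left_cancel g e) ?_)
    rintro y ⟨hy1, hy2⟩
    refine ⟨g⁻¹ • y, ⟨?_, ?_⟩, smul_inv_smul g y⟩
    · rwa [← blockRel_smul (g := g), smul_inv_smul]
    · rwa [← blockRel_smul (g := g), smul_inv_smul]
  have hcount : lam * (Nat.card Ω - 1) = k * (k - 1) :=
    pair_count (fun b y => blockRel H a b y) u (hrep u) (fun y => ncard_block H a y)
      (fun c hc => hpair u c hc.symm)
  haveI : Nontrivial (G ⧸ H) :=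
    Finite.one_lt_card_iff_nontrivial.1 (by rw [hYcard]; exact Finite.one_lt_card)
  obtain ⟨y₁, y₂, hy12⟩ := exists_pair_ne (G ⧸ H)
  have hinter : ∀ y y' : G ⧸ H, y ≠ y' →
      {b | blockRel H a b y ∧ blockRel H a b y'}.ncard = lam := by
    have hconst : ∀ y y' : G ⧸ H, y ≠ y' → {b | blockRel H a b y ∧ blockRel H a b y'}.ncard =
        {b | blockRel H a b y₁ ∧ blockRel H a b y₂}.ncard := by
      intro y y' hyy
      obtain ⟨g, rfl, rfl⟩ := is_two_pretransitive_iff.1 h2' hy12 hyy
      refine Eq.symm (Set.ncard_congr (fun b _ => g • b)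
        (fun b hb => ⟨blockRel_smul.2 hb.1, blockRel_smul.2 hb.2⟩)
        (fun b b' _ _ e => smul_left_cancel g e) ?_)
      rintro b ⟨hb1, hb2⟩
      refine ⟨g⁻¹ • b, ⟨?_, ?_⟩, smul_inv_smul g b⟩
      · rwa [← blockRel_smul (g := g), smul_inv_smul]
      · rwa [← blockRel_smul (g := g), smul_inv_smul]
    have h := pair_count (α := G ⧸ H) (β := Ω) (fun y b => blockRel H a b y) y₁
      (lam := {b | blockRel H a b y₁ ∧ blockRel H a b y₂}.ncard)
      (ncard_block H a y₁) hrep (fun y hy => hconst y₁ y hy.symm)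
    rw [hYcard, ← hcount] at h
    intro y y' hyy
    rw [hconst y y' hyy]
    exact Nat.eq_of_mul_eq_mul_right (by have := Finite.one_lt_card (α := Ω); omega) h
  have hnmem : ∃ c, c ∉ orbit H a := by
    by_contra hc
    push Not at hc
    apply hnt
    refine ⟨fun x y => ?_⟩
    obtain ⟨g, rfl⟩ := hc x
    obtain ⟨g', rfl⟩ := hc y
    exact ⟨g' * g⁻¹, by show (g' * g⁻¹) • g • a = g' • a; rw [← mul_smul, inv_mul_cancel_right]⟩
  have hkv : k + 2 ≤ Nat.card Ω := by
    obtain ⟨c, hc⟩ := hnmem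
    obtain ⟨h, hhc⟩ := hfix c
    have hsub : ({h • c, c} : Set Ω) ⊆ (orbit H a)ᶜ := by
      rintro b (rfl | rfl)
      · intro hb
        exact hc (by rwa [← orbit_eq_iff, orbit_smul, orbit_eq_iff] at hb)
      · exact hc
    have h' := Set.ncard_le_ncard hsub (Set.toFinite _)
    rw [Set.ncard_pair hhc, Set.ncard_compl, ← hk] at h'
    omega
  have hlam0 : 0 < lam := by
    rcases Nat.eq_zero_or_pos lam with h | h
    · rw [h, zero_mul, eq_comm, mul_eq_zero] at hcount; omega
    · exact h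
  have hgap : lam + 2 ≤ k := by
    by_contra h
    push Not at h
    have h1 : (k - 1) * (k + 1) ≤ lam * (Nat.card Ω - 1) :=
      Nat.mul_le_mul (by omega) (by omega)
    rw [hcount, mul_comm k, Nat.mul_le_mul_left_iff (by omega)] at h1
    omega
  have hI1 : ∀ b, blockRel H a b ((1 : G) : G ⧸ H) ↔ b ∈ orbit H a := fun b => by
    rw [blockRel_mk, inv_one, one_smul]
  refine ⟨{
    I := fun b y => blockRel H a b y
    two := h2'
    trans_off := ?_
    equiv := fun g b y => blockRel_smul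
    card_eq := Dual.card_fixedBy_quotient h2 H hidx hnt hfix
    card_pts := hYcard
    k := k
    lam := lam
    block_card := ncard_block H a
    point_card := hrep
    block_inter := hinter
    pair := hpair
    lam_pos := hlam0
    gap := hgap
    count := hcount }, hI1⟩
  intro y b c hb hc
  obtain ⟨g, rfl⟩ := QuotientGroup.mk_surjective y
  rw [blockRel_mk] at hb hc
  obtain ⟨P, Q, -, huniv⟩ := Nat.card_eq_two_iff.1 (S3704.result h2 H hidx hnt hfix)
  have hall : ∀ o : orbitRel.Quotient H Ω, o = P ∨ o = Q := fun o => by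
    have : o ∈ ({P, Q} : Set (orbitRel.Quotient H Ω)) := huniv ▸ Set.mem_univ o
    exact this
  have hne : ∀ x : Ω, x ∉ orbit H a →
      (Quotient.mk'' x : orbitRel.Quotient H Ω) ≠ Quotient.mk'' a :=
    fun x hx e => hx (Quotient.exact' e)
  have hsame : (Quotient.mk'' (g⁻¹ • c) : orbitRel.Quotient H Ω) = Quotient.mk'' (g⁻¹ • b) := by
    rcases hall (Quotient.mk'' (g⁻¹ • b)) with h1 | h1 <;>
      rcases hall (Quotient.mk'' (g⁻¹ • c)) with h3 | h3 <;>
      rcases hall (Quotient.mk'' a) with h4 | h4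
    all_goals first
      | exact h3.trans h1.symm
      | exact absurd (h1.trans h4.symm) (hne _ hb)
      | exact absurd (h3.trans h4.symm) (hne _ hc)
  obtain ⟨h, hh⟩ := (Quotient.exact' hsame : g⁻¹ • c ∈ orbit H (g⁻¹ • b))
  refine ⟨g * h * g⁻¹, ?_, ?_⟩
  · rw [MulAction.Quotient.smul_mk, QuotientGroup.eq]
    simp [mul_assoc, H.inv_mem h.2]
  · have hh' : (h : G) • g⁻¹ • b = g⁻¹ • c := hh
    rw [mul_smul, mul_smul, hh', smul_inv_smul]

end Cfsg.Agent.ONanElation
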