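import Cfsg.Agent.Lib.ONanElation.Translation
import Cfsg.Agent.Lib.Components.Signalizer
import Cfsg.Agent.Solvable.Frobenius

/-!
# A solvable normal subgroup fixing a block pointwise

If some nontrivial automorphism fixes a block pointwise then a nontrivial solvable normal subgroup
of the stabiliser of the block does.
-/

set_option autoImplicit false

open MulAction
open scoped Pointwise

namespace Cfsg.Agent.ONanElation

variable {G Ω Y : Type*} [Group G] [MulAction G Ω] [MulAction G Y] [Finite G] [Finite Ω]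
  [Finite Y] [FaithfulSMul G Ω]

theorem exists_trans (D : Design G Ω Y) {B : Y} (hK : D.Ker B ≠ ⊥) : Nonempty (Trans D B) := by
  classical
  have hnormal : ∀ g : G, g • B = B → ∀ m ∈ D.Ker B, g * m * g⁻¹ ∈ D.Ker B := fun g hg m hm => by
    simpa [hg] using D.conj_ker (g := g) hm
  by_cases hsemi : ∀ m ∈ D.Ker B, m ≠ 1 → ∀ a : Ω, ¬ D.I a B → m • a ≠ a
  · exact ⟨⟨D.Ker B, le_rfl, hnormal, hsemi, hK⟩⟩
  push Not at hsemi
  obtain ⟨g₀, hg₀, hg₀1, P₀, hP₀, hgP₀⟩ := hsemi
  set K := D.Ker B with hKdef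
  have hoff : ∀ {g : G} {a : Ω}, g • B = B → ¬ D.I a B → ¬ D.I (g • a) B := fun {g a} hg ha h =>
    ha ((D.equiv g a B).1 (by rwa [hg]))
  have hinvB : ∀ {g : G}, g • B = B → g⁻¹ • B = B := fun {g} hg => by
    rw [inv_smul_eq_iff, hg]
  set t := Nat.card ↥(K ⊓ stabilizer G P₀) with ht
  have ht2 : 2 ≤ t := by
    by_contra h
    have hbot : K ⊓ stabilizer G P₀ = ⊥ := by
      rw [← Subgroup.card_eq_one]
      have := Nat.card_pos (α := ↥(K ⊓ stabilizer G P₀))
      omega
    exact hg₀1 (by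
      rw [← Subgroup.mem_bot, ← hbot]; exact ⟨hg₀, mem_stabilizer_iff.2 hgP₀⟩)
  have hconst : ∀ P, ¬ D.I P B → Nat.card ↥(K ⊓ stabilizer G P) = t := by
    intro P hP
    obtain ⟨h, hhB, rfl⟩ := D.trans_off B P₀ P hP₀ hP
    refine Nat.card_congr
      { toFun := fun m => ⟨h⁻¹ * m * h, ?_, ?_⟩
        invFun := fun m => ⟨h * m * h⁻¹, hnormal h hhB m m.2.1, ?_⟩
        left_inv := fun m => Subtype.ext (by simp [mul_assoc])
        right_inv := fun m => Subtype.ext (by simp [mul_assoc]) }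
    · simpa using hnormal h⁻¹ (hinvB hhB) m m.2.1
    · exact mem_stabilizer_iff.2
        (by rw [mul_smul, mul_smul, mem_stabilizer_iff.1 m.2.2, inv_smul_smul])
    · exact mem_stabilizer_iff.2
        (by rw [mul_smul, mul_smul, inv_smul_smul, mem_stabilizer_iff.1 m.2.2])
  -- `K` is transitive off `B`
  set S := {a : Ω | D.I a B}ᶜ with hS
  have hot : (orbit K P₀).ncard * t = Nat.card K := card_orbit_mul_inf K P₀
  have hoS : orbit K P₀ ⊆ S := by
    rintro _ ⟨m, rfl⟩
    exact hoff (D.ker_smul m.2) hP₀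
  have hdvd : Nat.card K ∣ S.ncard * t :=
    card_dvd_of_stab K S (fun m hm a ha => hoff (D.ker_smul hm) ha) hconst
  have hle : S.ncard * (t - 1) ≤ Nat.card K - 1 := by
    let P : Ω → Finset G := fun a => (Set.toFinite {m : G | m ∈ K ∧ m • a = a ∧ m ≠ 1}).toFinset
    let Sf := (Set.toFinite S).toFinset
    have hP : ∀ a ∈ Sf, (P a).card = t - 1 := by
      intro a ha
      rw [← Set.ncard_eq_toFinset_card _, ← hconst a ((Set.Finite.mem_toFinset _).1 ha)]
      have : {m : G | m ∈ K ∧ m • a = a ∧ m ≠ 1} = ((K ⊓ stabilizer G a : Subgroup G) : Set G) \ {1} := by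
        ext m
        simp [and_assoc, mem_stabilizer_iff]
      rw [this, Set.ncard_sdiff_singleton_of_mem (one_mem (K ⊓ stabilizer G a)),
        ← Nat.card_coe_set_eq]
      rfl
    have hdisj : (Sf : Set Ω).PairwiseDisjoint P := by
      intro a ha b hb hab
      rw [Function.onFun, Finset.disjoint_left]
      intro m hma hmb
      rw [Set.Finite.mem_toFinset] at hma hmb
      exact hab (D.ker_extra_unique hma.1 hma.2.2 ((Set.Finite.mem_toFinset _).1 ha)
        ((Set.Finite.mem_toFinset _).1 hb) hma.2.1 hmb.2.1)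
    have hsub : Sf.biUnion P ⊆ (Set.toFinite ((K : Set G) \ {1})).toFinset := fun m hm => by
      obtain ⟨a, -, hma⟩ := Finset.mem_biUnion.1 hm
      rw [Set.Finite.mem_toFinset] at hma ⊢
      exact ⟨hma.1, hma.2.2⟩
    have h := Finset.card_le_card hsub
    rw [Finset.card_biUnion hdisj, Finset.sum_congr rfl hP, Finset.sum_const, smul_eq_mul,
      ← Set.ncard_eq_toFinset_card _, ← Set.ncard_eq_toFinset_card _,
      Set.ncard_sdiff_singleton_of_mem (one_mem K), ← Nat.card_coe_set_eq] at h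
    exact h
  set o := (orbit K P₀).ncard with ho
  have ho0 : 0 < o := (Set.ncard_pos (Set.toFinite _)).2 ⟨P₀, mem_orbit_self P₀⟩
  have heq : orbit K P₀ = S := by
    refine Set.eq_of_subset_of_ncard_le hoS ?_ (Set.toFinite _)
    rw [← hot] at hdvd hle
    obtain ⟨c, hc⟩ := Nat.dvd_of_mul_dvd_mul_right (by omega) hdvd
    rw [← ho]
    rw [hc] at hle ⊢
    by_contra hlt
    have hc2 : 2 ≤ c := by
      by_contra h
      interval_cases c <;> simp at hlt
    obtain ⟨t', ht'⟩ : ∃ t', t = t' + 2 := ⟨t - 2, by omega⟩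
    rw [ht'] at hle
    have : o * 2 * (t' + 1) ≤ o * c * (t' + 2 - 1) := by
      rw [show t' + 2 - 1 = t' + 1 by omega]; gcongr
    have hpos : 0 < o * (t' + 2) := Nat.mul_pos ho0 (by omega)
    have h3 : o * (t' + 2) ≤ o * 2 * (t' + 1) := by nlinarith
    omega
  have hkv : D.k + 2 ≤ Nat.card Ω := by
    have hc := D.count
    have hg := D.gap
    by_contra h
    push Not at h
    have : D.lam * (Nat.card Ω - 1) ≤ D.lam * D.k := Nat.mul_le_mul_left _ (by omega)
    rw [hc, mul_comm D.lam, Nat.mul_le_mul_left_iff (by omega)] at this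
    omega
  have ho2 : 2 ≤ o := by
    rw [ho, heq, hS, Set.ncard_compl, D.block_card]
    omega
  -- the Frobenius complement and kernel
  set H₀ : Subgroup ↥K := stabilizer K P₀ with hH₀
  have hH : Cfsg.IsFrobeniusComplement H₀ := by
    refine ⟨fun h => hg₀1 ?_, fun h => ?_, fun g hg => ?_⟩
    · exact congrArg Subtype.val (show (⟨g₀, hg₀⟩ : ↥K) = 1 by
        rw [← Subgroup.mem_bot, ← h]; exact hgP₀)
    · have hidx : H₀.index = o := by rw [ho, index_stabilizer]
      rw [h, Subgroup.index_top] at hidx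
      omega
    · rw [Subgroup.eq_bot_iff_forall]
      rintro x ⟨hx1, hx2⟩
      replace hx2 := (Characters.mem_conj_smul_iff g x).1 hx2
      rw [hH₀, mem_stabilizer_iff, mul_smul, mul_smul, inv_smul_eq_iff] at hx2
      rw [hH₀] at hx1 hg
      by_contra hx
      refine hg (mem_stabilizer_iff.2 ?_)
      exact D.ker_extra_unique x.2 (fun e => hx (Subtype.ext e))
        (hoff (D.ker_smul g.2) hP₀) hP₀ hx2 hx1
  obtain ⟨N, hN, -, hNH⟩ := Characters.frobenius_kernel_theorem hH
  have hmem : ∀ m : ↥K, m ∈ N ↔ ((m : G) = 1 ∨ ∀ a, ¬ D.I a B → (m : G) • a ≠ a) := by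
    intro m
    have hm : m ∈ N ↔ (m = 1 ∨ ∀ g : ↥K, m ∉ MulAut.conj g • H₀) := by
      rw [← SetLike.mem_coe, hN]; rfl
    rw [hm]
    refine or_congr ⟨fun h => congrArg Subtype.val h, fun h => Subtype.ext h⟩ ⟨?_, ?_⟩
    · intro h a ha hma
      have : a ∈ orbit K P₀ := by rw [heq]; exact ha
      obtain ⟨g, rfl⟩ := this
      refine h g ?_
      rw [Characters.mem_conj_smul_iff, hH₀, mem_stabilizer_iff, mul_smul, mul_smul,
        inv_smul_eq_iff]
      exact hma
    · intro h g hg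
      rw [Characters.mem_conj_smul_iff, hH₀, mem_stabilizer_iff, mul_smul, mul_smul,
        inv_smul_eq_iff] at hg
      exact h _ (hoff (D.ker_smul g.2) hP₀) hg
  refine ⟨⟨N.map K.subtype, Subgroup.map_subtype_le N, ?_, ?_, ?_⟩⟩
  · rintro g hg _ ⟨m, hm, rfl⟩
    refine ⟨⟨g * m * g⁻¹, hnormal g hg m m.2⟩, (hmem _).2 ?_, rfl⟩
    rcases (hmem m).1 hm with h | h
    · left; simp [h]
    · right
      intro a ha hga
      refine h (g⁻¹ • a) (hoff (hinvB hg) ha) ?_
      rw [mul_smul, mul_smul] at hga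
      rw [eq_inv_smul_iff]
      exact hga
  · rintro _ ⟨m, hm, rfl⟩ hm1
    exact ((hmem m).1 hm).resolve_left hm1
  · intro h
    rw [Subgroup.map_eq_bot_iff_of_injective _ K.subtype_injective] at h
    subst h
    have hc := hNH.card_mul
    rw [Subgroup.card_bot, one_mul] at hc
    have hot' : o * Nat.card H₀ = Nat.card K := by
      rw [← H₀.card_mul_index, mul_comm, ho, index_stabilizer]
    rw [← hc] at hot'
    have : 0 < Nat.card H₀ := Nat.card_pos
    nlinarith

theorem exists_solvable_normal (D : Design G Ω Y) {B : Y} (hK : D.Ker B ≠ ⊥) :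
    ∃ J : Subgroup G, J ≤ D.Ker B ∧ J ≠ ⊥ ∧ Group.IsSolvable ↥J ∧
      ∀ g : G, g • B = B → ∀ j ∈ J, g * j * g⁻¹ ∈ J := by
  classical
  haveI := Fintype.ofFinite G
  obtain ⟨T⟩ := exists_trans D hK
  obtain ⟨m, hm, hm1⟩ := (Subgroup.bot_or_exists_ne_one _).resolve_left T.ne_bot
  obtain ⟨C, hmC, hCB⟩ : ∃ C ∈ fixedBy Y m, C ≠ B := by
    refine Set.exists_ne_of_one_lt_ncard ?_ B
    rw [T.ncard_fix hm hm1]
    have := D.gap
    omega
  have hBC : B ≠ C := hCB.symm
  set U := T.M ⊓ stabilizer G C with hU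
  let Uc : G → Subgroup G := fun c => U.map (MulAut.conj c).toMonoidHom
  let S : Finset G := Finset.univ.filter fun c => c • B = B
  have hle : ∀ c, c • B = B → Uc c ≤ T.M := by
    rintro c hc _ ⟨u, hu, rfl⟩
    exact T.normal c hc u hu.1
  have hnorm : ∀ c, c • B = B → ∀ a ∈ T.M, ∀ x ∈ Uc c, a * x * a⁻¹ ∈ Uc c := by
    rintro c hc a ha _ ⟨u, hu, rfl⟩
    have hc' : c⁻¹ • B = B := by rw [inv_smul_eq_iff, hc]
    refine ⟨(c⁻¹ * a * c) * u * (c⁻¹ * a * c)⁻¹, T.U_normal hBC ?_ hu, ?_⟩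
    · simpa using T.normal c⁻¹ hc' a ha
    · simp [mul_assoc]
  have hsolU : ∀ c, c • B = B → Group.IsSolvable ↥(Uc c) := by
    intro c hc
    refine Group.isSolvable_of_comm ?_
    rintro ⟨_, u, hu, rfl⟩ ⟨_, u', hu', rfl⟩
    refine Subtype.ext ?_
    show (MulAut.conj c).toMonoidHom u * (MulAut.conj c).toMonoidHom u' = _
    rw [← map_mul, T.U_abelian hBC hu hu', map_mul]
    rfl
  have key : ∀ s : Finset G, (∀ c ∈ s, c • B = B) →
      Group.IsSolvable ↥(s.sup Uc) ∧ s.sup Uc ≤ T.M := by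
    intro s
    induction s using Finset.induction_on with
    | empty =>
      intro _
      rw [Finset.sup_empty]
      exact ⟨inferInstance, bot_le⟩
    | @insert c s hcs ih =>
      intro hall
      obtain ⟨h1, h2⟩ := ih fun d hd => hall d (Finset.mem_insert_of_mem hd)
      have hc := hall c (Finset.mem_insert_self c s)
      rw [Finset.sup_insert]
      refine ⟨Components.Signalizer.isSolvable_sup ?_ (hsolU c hc) h1, sup_le (hle c hc) h2⟩
      intro a ha
      rw [Subgroup.mem_normalizer_iff]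
      intro x
      refine ⟨fun hx => hnorm c hc a (h2 ha) x hx, fun hx => ?_⟩
      have := hnorm c hc a⁻¹ (T.M.inv_mem (h2 ha)) _ hx
      simpa [mul_assoc] using this
  obtain ⟨hsol, hJle⟩ := key S fun c hc => (Finset.mem_filter.1 hc).2
  refine ⟨S.sup Uc, hJle.trans T.le, ?_, hsol, ?_⟩
  · intro hb
    apply hm1
    have h1S : (1 : G) ∈ S := Finset.mem_filter.2 ⟨Finset.mem_univ _, one_smul _ _⟩
    have := Finset.le_sup (f := Uc) h1S ⟨m, ⟨hm, mem_stabilizer_iff.2 hmC⟩, rfl⟩
    rw [hb, Subgroup.mem_bot] at this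
    simpa using this
  · intro g hg j hj
    have hmap : (S.sup Uc).map (MulAut.conj g).toMonoidHom ≤ S.sup Uc := by
      rw [Subgroup.map_le_iff_le_comap]
      refine Finset.sup_le fun c hc => ?_
      rintro _ ⟨u, hu, rfl⟩
      have hgc : g * c ∈ S := Finset.mem_filter.2 ⟨Finset.mem_univ _, by
        rw [mul_smul, (Finset.mem_filter.1 hc).2, hg]⟩
      exact Finset.le_sup (f := Uc) hgc ⟨u, hu, by simp [mul_assoc]⟩
    exact hmap ⟨j, hj, rfl⟩

end Cfsg.Agent.ONanElation
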