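import Mathlib
import Cfsg.Agent.S3704

/-!
# The second permutation representation of degree `n`

If a subgroup `H` of index `n` in a two-transitive group of degree `n` is intransitive and fixes no
point, then the action on the cosets of `H` has the same permutation character, so it is faithful and
two-transitive, and a nontrivial abelian normal subgroup of `H` fixing a point is not semiregular in it.
-/

set_option autoImplicit false

open MulAction Matrix

namespace Cfsg.Agent.ONanElation.Dual

variable {G : Type*} [Group G]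

theorem trace_funLeft_smul {T : Type*} [Fintype T] [MulAction G T] (g : G) :
    LinearMap.trace ℚ (T → ℚ) (LinearMap.funLeft ℚ ℚ (fun t : T => g⁻¹ • t)) =
      (Nat.card (fixedBy T g) : ℚ) := by
  classical
  rw [LinearMap.trace_eq_matrix_trace ℚ (Pi.basisFun ℚ T), Matrix.trace]
  have e : ∀ t : T, Matrix.diag (LinearMap.toMatrix (Pi.basisFun ℚ T) (Pi.basisFun ℚ T)
      (LinearMap.funLeft ℚ ℚ (fun t : T => g⁻¹ • t))) t =
        if t ∈ fixedBy T g then 1 else 0 := by
    intro t
    have hiff : (g⁻¹ • t = t) ↔ t ∈ fixedBy T g := by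
      rw [mem_fixedBy, inv_smul_eq_iff]; exact eq_comm
    by_cases ht : g⁻¹ • t = t
    · rw [if_pos (hiff.1 ht)]
      simp [LinearMap.toMatrix_apply, LinearMap.funLeft_apply, ht]
    · rw [if_neg (fun h => ht (hiff.2 h))]
      simp [LinearMap.toMatrix_apply, LinearMap.funLeft_apply, Pi.single_apply, ht]
  simp only [e]
  rw [Finset.sum_boole, Nat.card_eq_fintype_card, Fintype.card_subtype]

theorem card_fixedBy_prod {T : Type*} [MulAction G T] (g : G) :
    Nat.card (fixedBy (T × T) g) = Nat.card (fixedBy T g) * Nat.card (fixedBy T g) := by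
  rw [← Nat.card_prod]
  exact Nat.card_congr
    { toFun := fun q => (⟨q.1.1, congrArg Prod.fst q.2⟩, ⟨q.1.2, congrArg Prod.snd q.2⟩)
      invFun := fun q => ⟨(q.1.1, q.2.1), Prod.ext q.1.2 q.2.2⟩
      left_inv := fun q => rfl
      right_inv := fun q => rfl }

theorem card_fixedBy_eq_of_equivariant {Y Z : Type*} [MulAction G Y] [MulAction G Z] [Fintype Y]
    [Fintype Z] (hcard : Fintype.card Y = Fintype.card Z) (A : Matrix Y Z ℚ)
    (hA : ∀ (g : G) (y : Y) (z : Z), A (g • y) (g • z) = A y z)
    (hinj : ∀ v : Z → ℚ, A.mulVec v = 0 → v = 0) (g : G) :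
    Nat.card (fixedBy Y g) = Nat.card (fixedBy Z g) := by
  classical
  have hbij : Function.Bijective A.mulVecLin := by
    have hi : Function.Injective A.mulVecLin :=
      (injective_iff_map_eq_zero _).2 fun v hv => hinj v hv
    refine ⟨hi, (LinearMap.injective_iff_surjective_of_finrank_eq_finrank ?_).1 hi⟩
    rw [Module.finrank_fintype_fun_eq_card, Module.finrank_fintype_fun_eq_card, hcard]
  let f : (Z → ℚ) ≃ₗ[ℚ] (Y → ℚ) := LinearEquiv.ofBijective _ hbij
  let ρY : (Y → ℚ) →ₗ[ℚ] (Y → ℚ) := LinearMap.funLeft ℚ ℚ (fun y => g⁻¹ • y)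
  let ρZ : (Z → ℚ) →ₗ[ℚ] (Z → ℚ) := LinearMap.funLeft ℚ ℚ (fun z => g⁻¹ • z)
  have hconj : f.conj ρZ = ρY := by
    refine LinearMap.ext fun v => ?_
    obtain ⟨w, rfl⟩ := f.surjective v
    rw [LinearEquiv.conj_apply_apply, LinearEquiv.symm_apply_apply]
    funext y
    show (A.mulVec fun z => w (g⁻¹ • z)) y = A.mulVec w (g⁻¹ • y)
    simp only [Matrix.mulVec, dotProduct]
    refine Fintype.sum_equiv (MulAction.toPerm g⁻¹) _ _ fun z => ?_
    rw [MulAction.toPerm_apply, hA g⁻¹]
  have h := LinearMap.trace_conj' (R := ℚ) ρZ f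
  rw [hconj, trace_funLeft_smul, trace_funLeft_smul] at h
  exact_mod_cast h

variable {Ω : Type*} [MulAction G Ω]

/-- The permutation characters on the points and on the cosets agree. -/
theorem card_fixedBy_quotient [Finite G] [Finite Ω]
    (h2 : MulAction.IsMultiplyPretransitive G Ω 2) (H : Subgroup G) (hidx : H.index = Nat.card Ω)
    (hnt : ¬ MulAction.IsPretransitive H Ω) (hfix : ∀ a : Ω, ∃ h : H, h • a ≠ a) (g : G) :
    Nat.card (fixedBy (G ⧸ H) g) = Nat.card (fixedBy Ω g) := by
  classical
  haveI := Fintype.ofFinite Ω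
  haveI := Fintype.ofFinite G
  haveI := Fintype.ofFinite (G ⧸ H)
  obtain ⟨u, w, huw⟩ : ∃ u w : Ω, w ∉ orbit H u := by
    by_contra hno
    push Not at hno
    exact hnt ⟨fun x y => hno x y⟩
  have hne : u ≠ w := fun h => huw (h ▸ mem_orbit_self u)
  haveI : Nontrivial Ω := ⟨⟨u, w, hne⟩⟩
  haveI := h2
  haveI htr : IsPretransitive G Ω := isPretransitive_of_is_two_pretransitive
  have move : ∀ {a b a' b' : Ω}, a ≠ b → a' ≠ b' → ∃ g : G, g • a = a' ∧ g • b = b' :=
    fun h h' => is_two_pretransitive_iff.1 h2 h h'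
  -- one orbit and any other
  have orbInv : ∀ (c : Ω), ∀ h ∈ H, ∀ x, h • x ∈ orbit H c ↔ x ∈ orbit H c := by
    intro c h hh x
    rw [← orbit_eq_iff, ← orbit_eq_iff (a := x)]
    rw [show orbit H (h • x) = orbit H x from orbit_smul (⟨h, hh⟩ : H) x]
  set A : Ω → Matrix (G ⧸ H) Ω ℚ := fun c => Matrix.of fun x a => S3704.inc H (orbit H c) (orbInv c) x a
    with hA
  have equiv : ∀ (c : Ω) (g : G) (x : G ⧸ H) (a : Ω), A c (g • x) (g • a) = A c x a := by
    intro c g x a
    obtain ⟨k, rfl⟩ := QuotientGroup.mk_surjective x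
    show S3704.inc H (orbit H c) (orbInv c) (g • (QuotientGroup.mk k : G ⧸ H)) (g • a) = S3704.inc H (orbit H c) (orbInv c) (QuotientGroup.mk k) a
    rw [MulAction.Quotient.smul_mk, smul_eq_mul, S3704.inc_mk, S3704.inc_mk, _root_.mul_inv_rev, mul_smul, inv_smul_smul]
  have prodInv : ∀ (c d : Ω) (g : G) (a b : Ω),
      ((A c)ᵀ * A d) (g • a) (g • b) = ((A c)ᵀ * A d) a b := by
    intro c d g a b
    simp only [Matrix.mul_apply, Matrix.transpose_apply]
    refine (Fintype.sum_equiv (MulAction.toPerm g : Equiv.Perm (G ⧸ H)) _ _ fun x => ?_).symm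
    show _ = A c (g • x) (g • a) * A d (g • x) (g • b)
    rw [equiv, equiv]
  have colsum : ∀ (c : Ω) (a : Ω), (∑ x, A c x a) = ∑ x, A c x u := by
    intro c a
    obtain ⟨g, hg⟩ := exists_smul_eq G u a
    refine (Fintype.sum_equiv (MulAction.toPerm g : Equiv.Perm (G ⧸ H)) _ _ fun x => ?_).symm
    show _ = A c (g • x) a
    rw [← hg, equiv]
  have shape : ∀ (c d : Ω) (a b : Ω), ((A c)ᵀ * A d) a b =
      if a = b then ((A c)ᵀ * A d) u u else ((A c)ᵀ * A d) u w := by
    intro c d a b
    by_cases hab : a = b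
    · subst hab
      rw [if_pos rfl]
      obtain ⟨g, rfl⟩ := exists_smul_eq G u a
      exact prodInv c d g u u
    · rw [if_neg hab]
      obtain ⟨g, hga, hgb⟩ := move hne hab
      rw [← hga, ← hgb, prodInv]
  have zero_one : ∀ c x a, A c x a = 0 ∨ A c x a = 1 := by
    intro c x a
    obtain ⟨k, rfl⟩ := QuotientGroup.mk_surjective x
    simp only [hA, Matrix.of_apply]
    rw [S3704.inc_mk]
    split_ifs <;> simp
  set α := ((A u)ᵀ * A u) u u with hα
  set β := ((A u)ᵀ * A u) u w with hβ
  have hαsum : ∀ a, α = ∑ x, A u x a := by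
    intro a
    have := shape u u a a
    rw [if_pos rfl] at this
    rw [hα, ← this, Matrix.mul_apply]
    exact Finset.sum_congr rfl fun x _ => by
      rw [Matrix.transpose_apply]; rcases zero_one u x a with h | h <;> simp [h]
  have hbase : ∀ (c a : Ω), A c (QuotientGroup.mk 1) a = if a ∈ orbit H c then 1 else 0 := by
    intro c a
    simp only [hA, Matrix.of_apply]
    rw [S3704.inc_mk]
    simp [inv_one]
  have hαpos : 0 < α := by
    rw [hαsum u]
    refine Finset.sum_pos' (fun x _ => by rcases zero_one u x u with h | h <;> simp [h])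
      ⟨QuotientGroup.mk 1, Finset.mem_univ _, ?_⟩
    rw [hbase, if_pos (mem_orbit_self u)]
    norm_num
  have hβnn : 0 ≤ β := by
    rw [hβ, Matrix.mul_apply]
    exact Finset.sum_nonneg fun x _ => by
      rw [Matrix.transpose_apply]
      rcases zero_one u x u with h | h <;> rcases zero_one u x w with h' | h' <;> simp [h, h']
  -- `β < α`
  have hlt : β < α := by
    obtain ⟨h, hh⟩ := hfix u
    obtain ⟨g, hgu, hgw⟩ := move hne hh.symm
    refine lt_of_le_of_ne ?_ fun he => ?_
    · rw [hαsum u, hβ, Matrix.mul_apply]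
      exact Finset.sum_le_sum fun x _ => by
        rw [Matrix.transpose_apply]
        rcases zero_one u x u with h1 | h1 <;> rcases zero_one u x w with h' | h' <;> simp [h1, h']
    · -- every translate containing `u` would contain every point
      have hall : ∀ x, A u x u * A u x w = A u x u := by
        intro x
        have hsum : ∑ x, A u x u * A u x w = ∑ x, A u x u := by
          rw [← hαsum u, ← he, hβ, Matrix.mul_apply]
          rfl
        refine ((Finset.sum_eq_sum_iff_of_le fun y _ => ?_).1 hsum x (Finset.mem_univ x))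
        rcases zero_one u y u with h1 | h1 <;> rcases zero_one u y w with h' | h' <;> simp [h1, h']
      have := hall (QuotientGroup.mk 1)
      rw [hbase, hbase, if_pos (mem_orbit_self u), if_neg huw] at this
      norm_num at this
  -- injectivity
  have hinj : ∀ v : Ω → ℚ, (A u).mulVec v = 0 → v = 0 := by
    intro v hv
    have h0 : ((A u)ᵀ * A u).mulVec v = 0 := by rw [← Matrix.mulVec_mulVec, hv, Matrix.mulVec_zero]
    have hrow : ∀ a, (α - β) * v a + β * ∑ b, v b = 0 := by
      intro a
      have := congrFun h0 a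
      simp only [Matrix.mulVec, dotProduct, Pi.zero_apply] at this
      have hterm : ∀ b, ((A u)ᵀ * A u) a b * v b =
          (if b = a then (α - β) * v b else 0) + β * v b := fun b => by
        rw [shape u u a b, ← hα, ← hβ]
        by_cases hab : a = b
        · subst hab; simp; ring
        · simp [hab, Ne.symm hab]
      rw [Finset.sum_congr rfl fun b _ => hterm b, Finset.sum_add_distrib, Finset.sum_ite_eq',
        ← Finset.mul_sum, if_pos (Finset.mem_univ a)] at this
      exact this
    have hs : (α - β + β * Fintype.card Ω) * ∑ b, v b = 0 := by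
      have := Finset.sum_congr (s₁ := (Finset.univ : Finset Ω)) rfl fun a _ => hrow a
      rw [Finset.sum_add_distrib, ← Finset.mul_sum, Finset.sum_const, Finset.sum_const, Finset.card_univ,
        nsmul_eq_mul, smul_zero] at this
      linear_combination this
    have hpos : 0 < α - β + β * Fintype.card Ω :=
      add_pos_of_pos_of_nonneg (sub_pos.2 hlt) (mul_nonneg hβnn (Nat.cast_nonneg _))
    have hs' := (mul_eq_zero.1 hs).resolve_left hpos.ne'
    funext a
    have := hrow a
    rw [hs', mul_zero, add_zero] at this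
    exact (mul_eq_zero.1 this).resolve_left (sub_pos.2 hlt).ne'
  refine card_fixedBy_eq_of_equivariant ?_ (A u) (equiv u) hinj g
  rw [← Nat.card_eq_fintype_card, ← Nat.card_eq_fintype_card, ← Subgroup.index_eq_card, hidx]

theorem card_orbits_prod_eq {Y Z : Type*} [MulAction G Y] [MulAction G Z] [Finite G] [Finite Y]
    [Finite Z] (h : ∀ g : G, Nat.card (fixedBy Y g) = Nat.card (fixedBy Z g)) :
    Nat.card (orbitRel.Quotient G (Y × Y)) = Nat.card (orbitRel.Quotient G (Z × Z)) := by
  classical
  haveI := Fintype.ofFinite G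
  haveI := Fintype.ofFinite Y
  haveI := Fintype.ofFinite Z
  haveI := Fintype.ofFinite (orbitRel.Quotient G (Y × Y))
  haveI := Fintype.ofFinite (orbitRel.Quotient G (Z × Z))
  have hY := MulAction.sum_card_fixedBy_eq_card_orbits_mul_card_group G (Y × Y)
  have hZ := MulAction.sum_card_fixedBy_eq_card_orbits_mul_card_group G (Z × Z)
  simp only [← Nat.card_eq_fintype_card] at hY hZ
  simp only [card_fixedBy_prod, h] at hY hZ
  rw [hZ] at hY
  exact (Nat.eq_of_mul_eq_mul_right Nat.card_pos hY).symm

theorem card_orbits_prod_eq_two {Z : Type*} [MulAction G Z] [Nontrivial Z]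
    (h2 : MulAction.IsMultiplyPretransitive G Z 2) :
    Nat.card (orbitRel.Quotient G (Z × Z)) = 2 := by
  haveI := h2
  haveI : IsPretransitive G Z := isPretransitive_of_is_two_pretransitive
  obtain ⟨u, w, hne⟩ := exists_pair_ne Z
  rw [Nat.card_eq_two_iff]
  refine ⟨Quotient.mk'' (u, u), Quotient.mk'' (u, w), fun h => hne ?_, ?_⟩
  · obtain ⟨g, hg⟩ := (Quotient.exact' h : (u, u) ∈ orbit G (u, w))
    exact smul_left_cancel g
      ((congrArg Prod.fst hg).trans (congrArg Prod.snd hg).symm)
  · ext o
    simp only [Set.mem_univ, iff_true, Set.mem_insert_iff, Set.mem_singleton_iff]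
    obtain ⟨⟨a, b⟩, rfl⟩ := Quotient.mk''_surjective o
    rcases eq_or_ne a b with rfl | hab
    · obtain ⟨g, rfl⟩ := exists_smul_eq G u a
      exact Or.inl (Quotient.sound' ⟨g, rfl⟩)
    · obtain ⟨g, rfl, rfl⟩ := is_two_pretransitive_iff.1 h2 hne hab
      exact Or.inr (Quotient.sound' ⟨g, rfl⟩)

theorem two_of_card_orbits_prod {Y : Type*} [MulAction G Y] [Finite Y]
    (h : Nat.card (orbitRel.Quotient G (Y × Y)) = 2) :
    MulAction.IsMultiplyPretransitive G Y 2 := by
  classical
  refine is_two_pretransitive_iff.2 fun {a b c d} hab hcd => ?_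
  haveI := Finite.of_surjective (Quotient.mk'' : Y × Y → orbitRel.Quotient G (Y × Y))
    Quotient.mk''_surjective
  obtain ⟨P, Q, -, huniv⟩ := Nat.card_eq_two_iff.1 h
  have hall : ∀ o : orbitRel.Quotient G (Y × Y), o = P ∨ o = Q := fun o => by
    have : o ∈ ({P, Q} : Set (orbitRel.Quotient G (Y × Y))) := huniv ▸ Set.mem_univ o
    exact this
  have hne : ∀ {p q : Y}, p ≠ q →
      (Quotient.mk'' (p, q) : orbitRel.Quotient G (Y × Y)) ≠ Quotient.mk'' (p, p) := by
    intro p q hpq he
    obtain ⟨g, hg⟩ := (Quotient.exact' he : (p, q) ∈ orbit G (p, p))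
    exact hpq ((congrArg Prod.fst hg).symm.trans (congrArg Prod.snd hg))
  have hne' : ∀ {p q r : Y}, p ≠ q →
      (Quotient.mk'' (p, q) : orbitRel.Quotient G (Y × Y)) ≠ Quotient.mk'' (r, r) := by
    intro p q r hpq he
    obtain ⟨g, hg⟩ := (Quotient.exact' he : (p, q) ∈ orbit G (r, r))
    exact hpq ((congrArg Prod.fst hg).symm.trans (congrArg Prod.snd hg))
  have hsame : (Quotient.mk'' (c, d) : orbitRel.Quotient G (Y × Y)) = Quotient.mk'' (a, b) := by
    rcases hall (Quotient.mk'' (c, d)) with h1 | h1 <;>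
      rcases hall (Quotient.mk'' (a, b)) with h3 | h3 <;>
      rcases hall (Quotient.mk'' (a, a)) with h4 | h4
    all_goals first
      | exact h1.trans h3.symm
      | exact absurd (h1.trans h4.symm) (hne' hcd)
      | exact absurd (h3.trans h4.symm) (hne hab)
  obtain ⟨g, hg⟩ := (Quotient.exact' hsame : (c, d) ∈ orbit G (a, b))
  exact ⟨g, congrArg Prod.fst hg, congrArg Prod.snd hg⟩

end Cfsg.Agent.ONanElation.Dual
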