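import Mathlib

/-!
# Elation geometries of two-transitive groups

The interface between the group-theoretic part (from an abelian normal subgroup of a point
stabiliser which is not semiregular to an elation geometry) and the geometric part (from an
elation geometry to a projective space and the identification of the group).
-/

set_option autoImplicit false

namespace Cfsg.Agent.ONanElation

variable (G X : Type*) [Group G] [MulAction G X]

/-- A linear space on `X` invariant under `G`, with a family `A` of abelian groups of elations: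
`A x` fixes `x` and every line through `x`; the fixed points of a nontrivial element form a proper
subspace meeting every line; the elations with a given centre and axis are transitive on the points
of an affine line through the centre. -/
structure Geo where
  /-- The line joining two points. -/
  L : X → X → Set X
  /-- The group of elations with a given centre. -/
  A : X → Subgroup G
  equivar : ∀ (g : G) (x : X), A (g • x) = (A x).map (MulAut.conj g).toMonoidHom
  fix : ∀ x : X, ∀ a ∈ A x, a • x = x
  comm : ∀ x : X, ∀ a ∈ A x, ∀ b ∈ A x, a * b = b * a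
  ti : ∀ x y : X, x ≠ y → A x ⊓ A y = ⊥
  moved : ∀ x y : X, x ≠ y → ∃ a ∈ A x, a • y ≠ y
  left_mem : ∀ x y : X, x ≠ y → x ∈ L x y
  right_mem : ∀ x y : X, x ≠ y → y ∈ L x y
  line_eq : ∀ x y z w : X, x ≠ y → z ≠ w → z ∈ L x y → w ∈ L x y → L z w = L x y
  smul_line : ∀ (g : G) (x y z : X), x ≠ y → (g • z ∈ L (g • x) (g • y) ↔ z ∈ L x y)
  three : ∀ x y : X, x ≠ y → ∃ z ∈ L x y, z ≠ x ∧ z ≠ y
  not_all : ∀ x y : X, x ≠ y → ∃ z : X, z ∉ L x y
  veblen : ∀ x y z y' z' : X, x ≠ y → x ≠ z → y ≠ z → z ∉ L x y → y' ∈ L x y → z' ∈ L x z →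
    y' ≠ z' → ∃ w : X, w ∈ L y z ∧ w ∈ L y' z'
  central : ∀ x : X, ∀ a ∈ A x, ∀ y : X, x ≠ y → a • y ∈ L x y
  fix_line : ∀ x : X, ∀ a ∈ A x, ∀ y z w : X, y ≠ z → a • y = y → a • z = z → w ∈ L y z → a • w = w
  meets : ∀ x : X, ∀ a ∈ A x, ∀ y z : X, y ≠ z → ∃ w ∈ L y z, a • w = w
  full : ∀ x : X, ∀ a ∈ A x, a ≠ 1 → ∀ c q r : X, a • c = c → a • q ≠ q → a • r ≠ r → r ∈ L c q →
    ∃ b ∈ A c, b • q = r ∧ ∀ h : X, a • h = h → b • h = h

end Cfsg.Agent.ONanElation
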