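import Cfsg.Agent.Lib.ONanElation.Geo
import Cfsg.Agent.Lib.ONanGeom.Identify

/-!
# From an elation geometry to `PSL`

The geometric end of O'Nan's theorem, for the interface `Geo`.
-/

set_option autoImplicit false

namespace Cfsg.Agent.ONanElation

universe uG uX

variable {G : Type uG} {X : Type uX} [Group G] [MulAction G X]

/-- An elation geometry as data for the geometric end. -/
noncomputable def Geo.toData [Nontrivial X] (S : Geo G X) : ONanGeom.Data G X where
  ln := S.L
  T := S.A
  left_mem h := S.left_mem _ _ h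
  right_mem h := S.right_mem _ _ h
  eq_of_mem {a b c d} hab hc hd hcd := S.line_eq a b c d hab hcd hc hd
  thick h := S.three _ _ h
  noncollinear := by
    obtain ⟨a, b, hab⟩ := exists_pair_ne X
    obtain ⟨c, hc⟩ := S.not_all a b hab
    exact ⟨a, b, c, hab, hc⟩
  veblen {a b c d e} hab hc hd hda _ he _ _ := by
    have hac : a ≠ c := fun h => hc (h ▸ S.left_mem a b hab)
    have hbc : b ≠ c := fun h => hc (h ▸ S.right_mem a b hab)
    refine S.veblen a b c d e hab hac hbc hc hd he ?_
    rintro rfl
    have h1 : S.L a d = S.L a b :=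
      S.line_eq a b a d hab hda.symm (S.left_mem a b hab) hd
    have h2 : S.L a d = S.L a c :=
      S.line_eq a c a d hac hda.symm (S.left_mem a c hac) he
    exact hc (h1.symm.trans h2 ▸ S.right_mem a c hac)
  smul_mem g {a b x} hab hx := (S.smul_line g a b x hab).2 hx
  conj g {a t} ht := by rw [S.equivar]; exact ⟨t, ht, rfl⟩
  fix_center ht := S.fix _ _ ht
  central ht hb := S.central _ _ ht _ hb.symm
  trans {a b c} hba hc hca := by
    obtain ⟨t, ht, htb⟩ := S.moved a b hba.symm
    have htc : t • c ≠ c := fun h => htb (S.fix_line a t ht a c b hca.symm (S.fix a t ht) h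
      (S.line_eq a b a c hba.symm hca.symm (S.left_mem a b hba.symm) hc ▸ S.right_mem a b hba.symm))
    obtain ⟨u, hu, hub, -⟩ := S.full a t ht (fun h => htb (by rw [h, one_smul])) a b c
      (S.fix a t ht) htb htc hc
    exact ⟨u, hu, hub⟩
  fix_line {a b x t} ht hba hb hx := S.fix_line a t ht a b x hba.symm (S.fix a t ht) hb hx
  axis ht h := S.meets _ _ ht _ _ h

/-- An elation geometry with a 2-transitive group yields `PSL`. -/
theorem geo_main [Finite G] [Finite X] [Nontrivial X] [FaithfulSMul G X]
    (h2 : MulAction.IsMultiplyPretransitive G X 2) (S : Geo G X) :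
    ∃ (F : Type) (_ : Field F) (_ : Fintype F) (n : ℕ), 3 ≤ n ∧
      Nat.card X * (Fintype.card F - 1) = Fintype.card F ^ n - 1 ∧
      ∃ L : Subgroup G, L.Normal ∧ Subgroup.centralizer (L : Set G) = ⊥ ∧
        Nonempty (↥L ≃* Matrix.ProjectiveSpecialLinearGroup (Fin n) F) :=
  ONanGeom.conclusion (fun _ _ _ _ hab hcd => MulAction.is_two_pretransitive_iff.1 h2 hab hcd)
    S.toData

end Cfsg.Agent.ONanElation
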