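import Cfsg.Agent.Lib.ONanElation.Basic

/-!
# The family attached to an abelian normal subgroup of a point stabiliser
-/

set_option autoImplicit false

open MulAction

namespace Cfsg.Agent.ONanElation

variable {G X : Type*} [Group G] [Finite G] [MulAction G X]

theorem exists_fam (h2 : MulAction.IsMultiplyPretransitive G X 2) (x : X) (N : Subgroup G)
    (hNle : N ≤ stabilizer G x)
    (hN : ∀ g ∈ stabilizer G x, ∀ n ∈ N, g * n * g⁻¹ ∈ N)
    (hab : ∀ a ∈ N, ∀ b ∈ N, a * b = b * a)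
    (hnsr : ∃ n ∈ N, n ≠ 1 ∧ ∃ y : X, y ≠ x ∧ n • y = y) : Nonempty (Fam G X) := by
  classical
  obtain ⟨n, hn, hn1, y, hyx, hny⟩ := hnsr
  haveI : Nontrivial X := ⟨⟨y, x, hyx⟩⟩
  haveI := h2
  haveI : IsPretransitive G X := isPretransitive_of_is_two_pretransitive
  obtain ⟨p, hp, hpd⟩ := Nat.exists_prime_and_dvd (n := orderOf n)
    (fun h => hn1 (orderOf_eq_one_iff.1 h))
  have ho : orderOf (n ^ (orderOf n / p)) = p :=
    orderOf_pow_orderOf_div (orderOf_pos n).ne' hpd
  let M : Subgroup G :=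
    { carrier := {g | g ∈ N ∧ g ^ p = 1}
      one_mem' := ⟨N.one_mem, one_pow p⟩
      mul_mem' := fun {a b} ha hb => ⟨N.mul_mem ha.1 hb.1, by
        rw [(show Commute a b from hab a ha.1 b hb.1).mul_pow, ha.2, hb.2, one_mul]⟩
      inv_mem' := fun {a} ha => ⟨N.inv_mem ha.1, by rw [inv_pow, ha.2, inv_one]⟩ }
  have hM : ∀ {g m : G}, g • x = x → m ∈ M → g * m * g⁻¹ ∈ M := fun {g m} hg hm =>
    ⟨hN g (mem_stabilizer_iff.2 hg) m hm.1, by rw [conj_pow, hm.2, mul_one, mul_inv_cancel]⟩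
  choose t ht using fun z : X => exists_smul_eq G x z
  let A : X → Subgroup G := fun z => M.map (MulAut.conj (t z)).toMonoidHom
  have hmem : ∀ (z : X) (a : G), a ∈ A z ↔ (t z)⁻¹ * a * t z ∈ M := by
    intro z a
    constructor
    · rintro ⟨m, hm, rfl⟩
      simpa [mul_assoc] using hm
    · intro h
      exact ⟨_, h, by simp [mul_assoc]⟩
  have hfix : ∀ z, ∀ a ∈ A z, a • z = z := by
    intro z a ha
    have h := mem_stabilizer_iff.1 (hNle ((hmem z a).1 ha).1)
    rw [mul_smul, mul_smul, ht, inv_smul_eq_iff, ht] at h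
    exact h
  have hequiv : ∀ (g : G) (z : X), A (g • z) = (A z).map (MulAut.conj g).toMonoidHom := by
    intro g z
    have hk : ((t (g • z))⁻¹ * g * t z) • x = x := by
      rw [mul_smul, mul_smul, ht, inv_smul_eq_iff, ht]
    have hk' : ((t z)⁻¹ * g⁻¹ * t (g • z)) • x = x := by
      rw [mul_smul, mul_smul, ht, inv_smul_smul, inv_smul_eq_iff, ht]
    ext a
    rw [hmem]
    constructor
    · intro h
      refine ⟨g⁻¹ * a * g, (hmem z _).2 ?_, by simp [mul_assoc]⟩
      have := hM hk' h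
      simpa [mul_assoc, mul_inv_rev] using this
    · rintro ⟨b, hb, rfl⟩
      have := hM hk ((hmem z b).1 hb)
      simpa [mul_assoc, mul_inv_rev] using this
  refine ⟨{
    A := A
    p := p
    prime := hp
    two := h2
    equivar := hequiv
    fix := hfix
    comm := ?_
    exponent := ?_
    nsr := ?_ }⟩
  · intro z a ha b hb
    have h := hab _ ((hmem z a).1 ha).1 _ ((hmem z b).1 hb).1
    calc a * b = t z * (((t z)⁻¹ * a * t z) * ((t z)⁻¹ * b * t z)) * (t z)⁻¹ := by group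
      _ = t z * (((t z)⁻¹ * b * t z) * ((t z)⁻¹ * a * t z)) * (t z)⁻¹ := by rw [h]
      _ = b * a := by group
  · intro z a ha
    have h := ((hmem z a).1 ha).2
    rw [show (t z)⁻¹ * a * t z = (t z)⁻¹ * a * ((t z)⁻¹)⁻¹ by rw [inv_inv], conj_pow,
      inv_inv] at h
    calc a ^ p = t z * ((t z)⁻¹ * a ^ p * t z) * (t z)⁻¹ := by group
      _ = 1 := by rw [h]; group
  · refine ⟨x, y, hyx.symm, n ^ (orderOf n / p), ?_, ?_, ?_⟩
    · rw [hmem]
      have hkx : (t x)⁻¹ • x = x := by rw [inv_smul_eq_iff, ht]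
      have := hM hkx (show n ^ (orderOf n / p) ∈ M from
        ⟨N.pow_mem hn _, orderOf_dvd_iff_pow_eq_one.1 (dvd_of_eq ho)⟩)
      simpa using this
    · intro h
      rw [h, orderOf_one] at ho
      exact hp.one_lt.ne ho
    · exact (stabilizer G y).pow_mem (mem_stabilizer_iff.2 hny) _

end Cfsg.Agent.ONanElation
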