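import Cfsg.Agent.Lib.ONanElation.Build
import Cfsg.Agent.Lib.ONanElation.Start
import Cfsg.Agent.Lib.ONanElation.GeoMain
import Cfsg.Agent.Lib.Classical.Linear

/-!
# Two-transitive groups with an abelian non-semiregular normal subgroup of a point stabiliser
-/

set_option autoImplicit false

open MulAction

namespace Cfsg.Agent.ONanElation

/-- O'Nan's theorem for abelian normal subgroups of point stabilisers. -/
theorem abelian_main {G X : Type*} [Group G] [Finite G] [Finite X] [MulAction G X]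
    [FaithfulSMul G X] (h2 : MulAction.IsMultiplyPretransitive G X 2) (x : X) (N : Subgroup G)
    (hNle : N ≤ stabilizer G x)
    (hN : ∀ g ∈ stabilizer G x, ∀ n ∈ N, g * n * g⁻¹ ∈ N)
    (hab : ∀ a ∈ N, ∀ b ∈ N, a * b = b * a)
    (hnsr : ∃ n ∈ N, n ≠ 1 ∧ ∃ y : X, y ≠ x ∧ n • y = y) :
    ∃ (F : Type) (_ : Field F) (_ : Fintype F) (n : ℕ), 3 ≤ n ∧
      Nat.card X * (Fintype.card F - 1) = Fintype.card F ^ n - 1 ∧
      ∃ L : Subgroup G, L.Normal ∧ Subgroup.centralizer (L : Set G) = ⊥ ∧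
        IsSimpleGroup ↥L ∧ ¬ IsMulCommutative ↥L ∧
        Nonempty (↥L ≃* Matrix.ProjectiveSpecialLinearGroup (Fin n) F) := by
  obtain ⟨Fam⟩ := exists_fam h2 x N hNle hN hab hnsr
  haveI := Fam.nontrivial
  obtain ⟨F, hF, hFi, n, hn, hcard, L, hL, hC, ⟨e⟩⟩ := geo_main h2 Fam.geo
  refine ⟨F, hF, hFi, n, hn, hcard, L, hL, hC, ?_⟩
  have hs : IsSimpleGroup (Matrix.ProjectiveSpecialLinearGroup (Fin n) F) :=
    Classical.Linear.isSimpleGroup_PSL (by rw [Fintype.card_fin]; exact hn)
  have hna : ¬ IsMulCommutative (Matrix.ProjectiveSpecialLinearGroup (Fin n) F) := fun hc => by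
    have h1 : commutator (Matrix.ProjectiveSpecialLinearGroup (Fin n) F) = ⊥ := by
      rw [commutator_eq_bot_iff]
      exact hc
    have h2' : commutator (Matrix.ProjectiveSpecialLinearGroup (Fin n) F) = ⊤ := by
      rw [commutator_def, ← MonoidHom.range_eq_top.2 (QuotientGroup.mk'_surjective
        (Subgroup.center (Matrix.SpecialLinearGroup (Fin n) F))), MonoidHom.range_eq_map,
        ← Subgroup.map_commutator, ← commutator_def,
        Classical.Linear.commutator_SL_eq_top (by rw [Fintype.card_fin]; exact hn)]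
    rw [h1] at h2'
    haveI := hs.toNontrivial
    exact bot_ne_top h2'
  refine ⟨e.isSimpleGroup, fun hc => hna ?_, ⟨e⟩⟩
  haveI := hc
  exact ⟨⟨fun a b => e.symm.injective (by rw [map_mul, map_mul]; exact hc.is_comm.comm _ _)⟩⟩

end Cfsg.Agent.ONanElation
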