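import Cfsg.Agent.Lib.ONanElation.Design

/-!
# Translations of a symmetric design

A nontrivial group of automorphisms fixing a block pointwise, semiregular off it and normal in the
stabiliser of the block, has an abelian normal subgroup `M ⊓ stabilizer C`: counting gives that
the length of an orbit of blocks divides `k - 1`, whence this subgroup fixes the line through `B`
and `C` pointwise.
-/

set_option autoImplicit false

open MulAction

namespace Cfsg.Agent.ONanElation

section Orbits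

variable {G α : Type*} [Group G] [MulAction G α]

theorem card_orbit_mul_inf (M : Subgroup G) (a : α) :
    (orbit M a).ncard * Nat.card ↥(M ⊓ stabilizer G a) = Nat.card M := by
  rw [← Nat.card_coe_set_eq, Subgroup.card_eq_card_quotient_mul_card_subgroup (stabilizer M a),
    ← Nat.card_congr (orbitEquivQuotientStabilizer M a)]
  congr 1
  exact Nat.card_congr
    { toFun := fun m => ⟨⟨m.1, m.2.1⟩, m.2.2⟩
      invFun := fun m => ⟨m.1.1, m.1.2, m.2⟩
      left_inv := fun m => rfl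
      right_inv := fun m => rfl }

theorem card_dvd_of_stab [Finite α] (M : Subgroup G) {s : ℕ} (S : Set α)
    (hS : ∀ m ∈ M, ∀ a ∈ S, m • a ∈ S)
    (hs : ∀ a ∈ S, Nat.card ↥(M ⊓ stabilizer G a) = s) : Nat.card M ∣ S.ncard * s := by
  induction hn : S.ncard using Nat.strong_induction_on generalizing S with
  | _ n ih =>
    rcases S.eq_empty_or_nonempty with rfl | ⟨a, ha⟩
    · simp at hn; simp [← hn]
    have hO : orbit M a ⊆ S := by
      rintro _ ⟨m, rfl⟩
      exact hS m m.2 a ha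
    have hcard := Set.ncard_sdiff_add_ncard_of_subset hO (Set.toFinite _)
    have hpos : 0 < (orbit M a).ncard :=
      (Set.ncard_pos (Set.toFinite _)).2 ⟨a, mem_orbit_self a⟩
    have h := ih (S \ orbit M a).ncard (by omega) (S \ orbit M a)
      (fun m hm b hb => ⟨hS m hm b hb.1, fun hmb => hb.2 (by
        obtain ⟨x, hx⟩ := hmb
        refine ⟨⟨m, hm⟩⁻¹ * x, ?_⟩
        show (⟨m, hm⟩⁻¹ * x : ↥M) • a = b
        rw [mul_smul, inv_smul_eq_iff]
        exact hx)⟩)
      (fun b hb => hs b hb.1) rfl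
    rw [← hn, ← hcard, add_mul]
    refine Nat.dvd_add h ?_
    rw [← hs a ha, card_orbit_mul_inf]

end Orbits

/-- The counting: the orbit length `l` divides `k - 1`, and `k - 1 < 2 * lam * l`. -/
theorem translation_arith {v k lam s l f p : ℕ} (hgap : lam + 2 ≤ k) (hlam : 0 < lam) (hl : 1 < l)
    (hv : k ≤ v) (h1 : lam * (v - 1) = k * (k - 1))
    (h2 : (v - 1) * s = (v - 1) + (s * l - 1) * (k - 1))
    (h3 : k - lam = f * s) (h4 : v - k = p * (s * l)) :
    l ∣ k - 1 ∧ k - 1 < 2 * lam * l := by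
  have hs : 0 < s := by
    rcases Nat.eq_zero_or_pos s with rfl | h
    · rw [mul_zero] at h3; omega
    · exact h
  have hsl : 0 < s * l := Nat.mul_pos hs (by omega)
  zify [show 1 ≤ v by omega, show 1 ≤ k by omega] at h1
  zify [show 1 ≤ v by omega, show 1 ≤ k by omega, show 1 ≤ s * l by omega] at h2
  zify [show lam ≤ k by omega] at h3
  zify [hv] at h4
  have hk1 : (k : ℤ) - 1 ≠ 0 := by omega
  have hf : (f : ℤ) ≠ 0 := by
    intro h; rw [h, zero_mul] at h3; omega
  have e1 : (k : ℤ) * (s - 1) = lam * (s * l - 1) := by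
    apply mul_right_cancel₀ hk1
    linear_combination lam * h2 - (s - 1) * h1
  have e2 : (f : ℤ) * (s - 1) = lam * (l - 1) := by
    apply mul_right_cancel₀ (show (s : ℤ) ≠ 0 by omega)
    linear_combination e1 - (s - 1) * h3
  have e3 : (f : ℤ) * (k - 1) = p * lam * l := by
    apply mul_right_cancel₀ (show (s : ℤ) ≠ 0 by omega)
    linear_combination lam * h4 - h1 - (k - 1) * h3
  have e4 : ((k : ℤ) - 1) * (l - 1) = p * l * (s - 1) := by
    apply mul_left_cancel₀ hf
    linear_combination (l - 1) * e3 - p * l * e2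
  have hs1 : (1 : ℤ) ≤ s - 1 := by
    rcases Nat.lt_or_ge s 2 with h | h
    · exfalso
      obtain rfl : s = 1 := by omega
      simp only [Nat.cast_one, sub_self, mul_zero] at e2
      rcases mul_eq_zero.1 e2.symm with h | h <;> omega
    · omega
  refine ⟨?_, ?_⟩
  · have hdvd : (l : ℤ) ∣ (k : ℤ) - 1 := ⟨((k : ℤ) - 1) - p * (s - 1), by linear_combination -e4⟩
    have : (l : ℤ) ∣ ((k - 1 : ℕ) : ℤ) := by
      rwa [Nat.cast_sub (show 1 ≤ k by omega), Nat.cast_one]
    exact_mod_cast this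
  · have e5 : (k : ℤ) = lam * l + f := by
      apply mul_right_cancel₀ (show (s : ℤ) - 1 ≠ 0 by omega)
      linear_combination e1 - e2
    have hfle : (f : ℤ) ≤ lam * (l - 1) := by nlinarith
    have : ((k : ℤ) - 1) < 2 * lam * l := by nlinarith
    zify [show 1 ≤ k by omega]
    exact this

variable {G Ω Y : Type*} [Group G] [MulAction G Ω] [MulAction G Y]

/-- A group of translations with axis `B`, normal in the stabiliser of `B`. -/
structure Trans (D : Design G Ω Y) (B : Y) where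
  M : Subgroup G
  le : M ≤ D.Ker B
  normal : ∀ g : G, g • B = B → ∀ m ∈ M, g * m * g⁻¹ ∈ M
  semi : ∀ m ∈ M, m ≠ 1 → ∀ a : Ω, ¬ D.I a B → m • a ≠ a
  ne_bot : M ≠ ⊥

variable [Finite G] [Finite Ω] [Finite Y] [FaithfulSMul G Ω] {D : Design G Ω Y} {B : Y}
  (T : Trans D B)

namespace Trans

omit [Finite G] [Finite Ω] [Finite Y] [FaithfulSMul G Ω] in
theorem fix_iff {m : G} (hm : m ∈ T.M) (hm1 : m ≠ 1) (a : Ω) : m • a = a ↔ D.I a B :=
  ⟨fun h => by_contra fun ha => T.semi m hm hm1 a ha h, fun h => D.mem_Ker.1 (T.le hm) a h⟩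

omit [Finite G] [Finite Ω] [Finite Y] [FaithfulSMul G Ω] in
theorem ncard_fix {m : G} (hm : m ∈ T.M) (hm1 : m ≠ 1) : (fixedBy Y m).ncard = D.k := by
  rw [← Nat.card_coe_set_eq, D.card_eq, Nat.card_coe_set_eq, ← D.block_card B]
  congr 1
  exact Set.ext fun a => T.fix_iff hm hm1 a

omit [Finite G] [Finite Y] [FaithfulSMul G Ω] in
theorem smul_B {m : G} (hm : m ∈ T.M) : m • B = B := D.ker_smul (T.le hm)

omit [Finite G] [Finite Y] [FaithfulSMul G Ω] in
theorem smul_ne {m : G} (hm : m ∈ T.M) {C : Y} (hC : C ≠ B) : m • C ≠ B := by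
  intro h
  rw [← T.smul_B hm] at h
  exact hC (smul_left_cancel m h)

omit [Finite G] [Finite Ω] [Finite Y] [FaithfulSMul G Ω] in
theorem card_stab_eq {C E : Y} (hC : B ≠ C) (hE : B ≠ E) :
    Nat.card ↥(T.M ⊓ stabilizer G E) = Nat.card ↥(T.M ⊓ stabilizer G C) := by
  obtain ⟨g, hgB, rfl⟩ := is_two_pretransitive_iff.1 D.two hC hE
  have hg' : g⁻¹ • B = B := by rw [inv_smul_eq_iff, hgB]
  refine Nat.card_congr
    { toFun := fun m => ⟨g⁻¹ * m * g, ?_, ?_⟩
      invFun := fun m => ⟨g * m * g⁻¹, T.normal g hgB m m.2.1, ?_⟩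
      left_inv := fun m => Subtype.ext (by simp [mul_assoc])
      right_inv := fun m => Subtype.ext (by simp [mul_assoc]) }
  · simpa using T.normal g⁻¹ hg' m m.2.1
  · exact mem_stabilizer_iff.2
      (by rw [mul_smul, mul_smul, mem_stabilizer_iff.1 m.2.2, inv_smul_smul])
  · exact mem_stabilizer_iff.2
      (by rw [mul_smul, mul_smul, inv_smul_smul, mem_stabilizer_iff.1 m.2.2])

omit [Finite G] [Finite Y] [FaithfulSMul G Ω] in
theorem smul_line {m : G} (hm : m ∈ T.M) {C E : Y} (hE : E ∈ D.L B C) : m • E ∈ D.L B C := by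
  intro a h1 h2
  rw [← D.mem_Ker.1 (T.le hm) a h1, D.equiv]
  exact hE a h1 h2

theorem exists_moved {C : Y} (hC : B ≠ C) : ∃ a ∈ T.M, a • C ≠ C := by
  by_contra hc
  push Not at hc
  apply T.ne_bot
  rw [Subgroup.eq_bot_iff_forall]
  intro m hm
  by_contra hm1
  have hall : fixedBy Y m = Set.univ := Set.eq_univ_of_forall fun E => by
    rcases eq_or_ne B E with rfl | hE
    · exact T.smul_B hm
    have h := Subgroup.eq_of_le_of_card_ge (inf_le_left : T.M ⊓ stabilizer G E ≤ T.M) (by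
      rw [T.card_stab_eq hC hE]
      exact Subgroup.card_le_of_le (fun x hx => ⟨hx, mem_stabilizer_iff.2 (hc x hx)⟩))
    exact mem_stabilizer_iff.1 (h.ge hm).2
  have h := T.ncard_fix hm hm1
  rw [hall, Set.ncard_univ, D.card_pts] at h
  have hc' := D.count
  rw [h] at hc'
  have hg := D.gap
  have := Nat.eq_of_mul_eq_mul_right (show 0 < D.k - 1 by omega) hc'
  omega

theorem orbit_count {C : Y} (hC : B ≠ C) :
    (Nat.card Ω - 1) * Nat.card ↥(T.M ⊓ stabilizer G C) =
      (Nat.card Ω - 1) + (Nat.card T.M - 1) * (D.k - 1) := by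
  classical
  haveI := Fintype.ofFinite Y
  haveI := Fintype.ofFinite ↥T.M
  set S : Finset Y := Finset.univ.filter (· ≠ B) with hS
  have hScard : S.card = Nat.card Ω - 1 := by
    rw [hS, Finset.filter_ne', Finset.card_erase_of_mem (Finset.mem_univ B), Finset.card_univ,
      ← Nat.card_eq_fintype_card, D.card_pts]
  have hrow : ∀ E ∈ S, (Finset.univ.filter fun m : ↥T.M => (m : G) • E = E).card =
      Nat.card ↥(T.M ⊓ stabilizer G C) := by
    intro E hE
    rw [← T.card_stab_eq hC (Ne.symm (Finset.mem_filter.1 hE).2), ← Fintype.card_subtype,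
      ← Nat.card_eq_fintype_card]
    exact Nat.card_congr
      { toFun := fun m => ⟨m.1.1, m.1.2, m.2⟩
        invFun := fun m => ⟨⟨m.1, m.2.1⟩, m.2.2⟩
        left_inv := fun m => rfl
        right_inv := fun m => rfl }
  have hcol : ∀ m : ↥T.M, (S.filter fun E => (m : G) • E = E).card =
      if m = 1 then Nat.card Ω - 1 else D.k - 1 := by
    intro m
    split_ifs with hm
    · subst hm
      rw [← hScard, Finset.filter_true_of_mem (fun E _ => by rw [OneMemClass.coe_one, one_smul])]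
    · have hm1 : (m : G) ≠ 1 := fun e => hm (Subtype.ext e)
      rw [← T.ncard_fix m.2 hm1, hS, Finset.filter_filter]
      have he : (Finset.univ.filter fun E : Y => E ≠ B ∧ (m : G) • E = E) =
          (Finset.univ.filter fun E : Y => (m : G) • E = E).erase B := by
        ext E; simp
      rw [he, Finset.card_erase_of_mem (by simp [T.smul_B m.2]), ← Set.ncard_coe_finset]
      congr 2
      ext E; simp
  have h := Finset.sum_comm (s := S) (t := (Finset.univ : Finset ↥T.M))
    (f := fun E m => if (m : G) • E = E then 1 else 0)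
  simp only [Finset.sum_boole, Nat.cast_id] at h
  rw [Finset.sum_congr rfl hrow, Finset.sum_congr rfl (fun m _ => hcol m), Finset.sum_const,
    hScard, smul_eq_mul, Finset.sum_ite, Finset.sum_const, Finset.sum_const, smul_eq_mul,
    smul_eq_mul, Finset.filter_eq' (Finset.univ : Finset ↥T.M) 1,
    if_pos (Finset.mem_univ _), Finset.card_singleton, one_mul] at h
  rw [h, Finset.filter_ne', Finset.card_erase_of_mem (Finset.mem_univ _), Finset.card_univ,
    Nat.card_eq_fintype_card (α := ↥T.M)]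

omit [Finite G] [FaithfulSMul G Ω] in
theorem line_bound {C : Y} (hC : B ≠ C) : ((D.L B C).ncard - 1) * D.lam ≤ D.k - 1 := by
  classical
  set h := (D.L B C).ncard with hh
  set core := {a | D.I a B ∧ D.I a C} with hcore
  let Ls := (Set.toFinite (D.L B C)).toFinset
  let P : Y → Finset Ω := fun E => (Set.toFinite ({a | D.I a E} \ core)).toFinset
  have hsub : ∀ E ∈ Ls, core ⊆ {a | D.I a E} := fun E hE a ha =>
    (Set.Finite.mem_toFinset _).1 hE a ha.1 ha.2
  have hP : ∀ E ∈ Ls, (P E).card = D.k - D.lam := by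
    intro E hE
    rw [← Set.ncard_eq_toFinset_card _, Set.ncard_sdiff (hsub E hE) (Set.toFinite _), D.block_card,
      hcore, D.block_inter _ _ hC]
  have hdisj : (Ls : Set Y).PairwiseDisjoint P := by
    intro E hE F hF hEF
    rw [Function.onFun, Finset.disjoint_left]
    intro a haE haF
    rw [Set.Finite.mem_toFinset] at haE haF
    apply haE.2
    rw [hcore, D.core_eq hC hEF ((Set.Finite.mem_toFinset _).1 hE)
      ((Set.Finite.mem_toFinset _).1 hF)]
    exact ⟨haE.1, haF.1⟩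
  have hle : (Ls.biUnion P).card ≤ (coreᶜ : Set Ω).ncard := by
    rw [← Set.ncard_coe_finset]
    refine Set.ncard_le_ncard (fun a ha => ?_) (Set.toFinite _)
    obtain ⟨E, -, haE⟩ := Finset.mem_biUnion.1 ha
    exact ((Set.Finite.mem_toFinset _).1 haE).2
  rw [Finset.card_biUnion hdisj, Finset.sum_congr rfl hP, Finset.sum_const, smul_eq_mul,
    ← Set.ncard_eq_toFinset_card _, ← hh] at hle
  have hv := Set.ncard_add_ncard_compl core
  rw [hcore, D.block_inter _ _ hC] at hv
  rw [hcore] at hle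
  have hc := D.count
  have hg := D.gap
  have hh2 : 2 ≤ h := by
    rw [hh, ← Set.ncard_pair hC]
    refine Set.ncard_le_ncard ?_ (Set.toFinite _)
    rintro E (rfl | rfl)
    exacts [D.left_mem _ _, D.right_mem _ _]
  have hlam := D.lam_pos
  have hv1 : 1 ≤ Nat.card Ω := by omega
  obtain ⟨g, hgh⟩ : ∃ g, h = g + 1 := ⟨h - 1, by omega⟩
  obtain ⟨n, hn⟩ : ∃ n, D.k = D.lam + n := ⟨D.k - D.lam, by omega⟩
  rw [hgh, Nat.add_sub_cancel]
  rw [hn, Nat.add_sub_cancel_left, hgh] at hle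
  zify [hv1, show 1 ≤ D.k by omega] at hc
  have hle' : ((g : ℤ) + 1) * n + D.lam ≤ Nat.card Ω := by
    have : (g + 1) * n + D.lam ≤ Nat.card Ω := by omega
    exact_mod_cast this
  have hn0 : (0 : ℤ) < n := by
    have : 0 < n := by omega
    exact_mod_cast this
  have hk : (D.k : ℤ) = D.lam + n := by exact_mod_cast hn
  have h5 : (D.lam : ℤ) * g * n ≤ n * (D.k - 1) := by
    have h6 := mul_le_mul_of_nonneg_left hle' (show (0 : ℤ) ≤ D.lam by positivity)
    rw [hk] at hc ⊢
    nlinarith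
  zify [show 1 ≤ D.k by omega]
  have h7 : (g : ℤ) * D.lam * n ≤ (D.k - 1) * n := by linarith
  exact le_of_mul_le_mul_right h7 hn0

theorem orbit_facts {C : Y} (hC : B ≠ C) :
    1 < (orbit T.M C).ncard ∧ (orbit T.M C).ncard ∣ D.k - 1 ∧
      (D.L B C).ncard - 1 = (orbit T.M C).ncard := by
  set l := (orbit T.M C).ncard with hldef
  set s := Nat.card ↥(T.M ⊓ stabilizer G C) with hs
  have hls : l * s = Nat.card T.M := card_orbit_mul_inf T.M C
  have hs0 : 0 < s := Nat.card_pos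
  have hl : 1 < l := by
    obtain ⟨a, ha, hac⟩ := T.exists_moved hC
    rw [hldef, Set.one_lt_ncard (Set.toFinite _)]
    exact ⟨_, ⟨⟨a, ha⟩, rfl⟩, _, mem_orbit_self C, hac⟩
  have hoff : ∀ (U : Subgroup G), U ≤ T.M → ∀ S : Set Ω, (∀ a ∈ S, ¬ D.I a B) →
      (∀ m ∈ U, ∀ a ∈ S, m • a ∈ S) → Nat.card U ∣ S.ncard := by
    intro U hU S hSB hS
    have := card_dvd_of_stab U (s := 1) S hS fun a ha => by
      rw [Subgroup.card_eq_one, Subgroup.eq_bot_iff_forall]
      rintro m ⟨hm, hma⟩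
      by_contra hm1
      exact T.semi m (hU hm) hm1 a (hSB a ha) (mem_stabilizer_iff.1 hma)
    rwa [mul_one] at this
  have hn : s ∣ D.k - D.lam := by
    have h := hoff (T.M ⊓ stabilizer G C) inf_le_left ({a | D.I a C} \ {a | D.I a C ∧ D.I a B})
      (fun a ha h => ha.2 ⟨ha.1, h⟩) (fun m hm a ha => by
        have haC : D.I (m • a) C := by
          rw [← mem_stabilizer_iff.1 hm.2, D.equiv]; exact ha.1
        refine ⟨haC, fun h => ha.2 ⟨ha.1, ?_⟩⟩
        rw [← D.equiv m, T.smul_B hm.1]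
        exact h.2)
    rwa [Set.ncard_sdiff (fun a h => h.1) (Set.toFinite _), D.block_card,
      D.block_inter _ _ hC.symm] at h
  have hvk : Nat.card T.M ∣ Nat.card Ω - D.k := by
    have h := hoff T.M le_rfl {a | D.I a B}ᶜ (fun a ha => ha) (fun m hm a ha h => ha (by
      rw [Set.mem_ofPred_eq] at h ⊢
      rw [← D.equiv m, T.smul_B hm]; exact h))
    rwa [Set.ncard_compl, D.block_card] at h
  obtain ⟨f, hf⟩ := hn
  obtain ⟨p, hp⟩ := hvk
  have hkv : D.k ≤ Nat.card Ω := by
    rw [← D.block_card B, ← Set.ncard_univ]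
    exact Set.ncard_le_ncard (Set.subset_univ _) (Set.toFinite _)
  have hoc := T.orbit_count hC
  rw [← hs, ← hls] at hoc
  obtain ⟨hdvd, hlt⟩ := translation_arith (v := Nat.card Ω) (s := s) (l := l) (f := f) (p := p)
    D.gap D.lam_pos hl hkv D.count (by rw [hoc, mul_comm l s]) (by rw [hf, mul_comm])
    (by rw [hp, ← hls]; ring)
  refine ⟨hl, hdvd, ?_⟩
  have hmul : Nat.card T.M ∣ ((D.L B C).ncard - 1) * s := by
    have h := card_dvd_of_stab T.M (s := s) (D.L B C \ {B})
      (fun m hm E hE => ⟨T.smul_line hm hE.1, T.smul_ne hm hE.2⟩)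
      (fun E hE => T.card_stab_eq hC (fun e => hE.2 e.symm))
    rwa [Set.ncard_sdiff_singleton_of_mem (D.left_mem B C)] at h
  rw [← hls] at hmul
  obtain ⟨o, ho⟩ := Nat.dvd_of_mul_dvd_mul_right hs0 hmul
  have hb := line_bound (D := D) hC
  rw [ho] at hb
  have hle : l ≤ (D.L B C).ncard - 1 := by
    rw [← Set.ncard_sdiff_singleton_of_mem (D.left_mem B C)]
    refine Set.ncard_le_ncard ?_ (Set.toFinite _)
    rintro _ ⟨m, rfl⟩
    exact ⟨T.smul_line m.2 (D.right_mem B C), T.smul_ne m.2 hC.symm⟩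
  rw [ho] at hle ⊢
  have ho2 : o < 2 := by
    by_contra h
    push Not at h
    have : 2 * D.lam * l ≤ l * o * D.lam := by
      calc 2 * D.lam * l = l * 2 * D.lam := by ring
        _ ≤ _ := by gcongr
    omega
  interval_cases o
  · omega
  · rw [mul_one]

/-- An element of `M` fixing a block `E ≠ B` fixes the line through `B` and `E` pointwise. -/
theorem fix_line {m : G} (hm : m ∈ T.M) (hm1 : m ≠ 1) {E F : Y} (hE : B ≠ E) (hmE : m • E = E)
    (hF : F ∈ D.L B E) : m • F = F := by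
  classical
  haveI := Fintype.ofFinite Y
  obtain ⟨hl, hdvd, hgl⟩ := T.orbit_facts hE
  set l := (orbit T.M E).ncard
  have hclosed : ∀ {E' F' Q : Y}, E' ≠ F' → m • E' = E' → m • F' = F' → B ∉ D.L E' F' →
      Q ∈ D.L E' F' → m • Q = Q := by
    intro E' F' Q hne h1 h2 hB hQ
    have hBQ : B ≠ Q := fun e => hB (e ▸ hQ)
    refine D.meet_eq hne hBQ (fun e => hB (e ▸ D.left_mem B Q)) ?_ (D.ker_line (T.le hm)) hQ
      (D.right_mem B Q)
    simpa [h1, h2] using (D.smul_mem_iff (g := m)).2 hQ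
  let S : Finset Y := Finset.univ.filter fun Q => m • Q = Q ∧ Q ∉ D.L B E
  let line : Y → Finset Y := fun Q => (Set.toFinite (D.L E Q \ {E})).toFinset
  have hdvdS : l ∣ S.card := by
    rw [Finset.card_eq_sum_card_image line S]
    refine Finset.dvd_sum fun s hs => ?_
    obtain ⟨Q, hQ, rfl⟩ := Finset.mem_image.1 hs
    obtain ⟨hmQ, hQL⟩ := (Finset.mem_filter.1 hQ).2
    have hEQ : E ≠ Q := fun e => hQL (e ▸ D.right_mem B E)
    have hBnot : B ∉ D.L E Q := fun h => hQL (by
      rw [D.line_eq hEQ hE h (D.left_mem E Q)]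
      exact D.right_mem E Q)
    have hfib : (S.filter fun Q' => line Q' = line Q) = line Q := by
      ext R
      constructor
      · intro hR
        obtain ⟨hRS, hRl⟩ := Finset.mem_filter.1 hR
        rw [← hRl]
        refine (Set.Finite.mem_toFinset _).2 ⟨D.right_mem E R, fun e => ?_⟩
        exact (Finset.mem_filter.1 hRS).2.2 (by rw [show R = E from e]; exact D.right_mem B E)
      · intro hR
        obtain ⟨hR, hRE⟩ := (Set.Finite.mem_toFinset _).1 hR
        have hER : E ≠ R := fun e => hRE e.symm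
        have heq : D.L E R = D.L E Q := D.line_eq hEQ hER (D.left_mem E Q) hR
        refine Finset.mem_filter.2 ⟨Finset.mem_filter.2 ⟨Finset.mem_univ _,
          hclosed hEQ hmE hmQ hBnot hR, fun h => hQL ?_⟩, ?_⟩
        · rw [← D.line_eq hE hER (D.right_mem B E) h, heq]
          exact D.right_mem E Q
        · simp only [line, heq]
    rw [hfib, ← Set.ncard_eq_toFinset_card _, Set.ncard_sdiff_singleton_of_mem (D.left_mem E Q),
      D.ncard_L_eq hE hEQ, hgl]
  set A : Finset Y := Finset.univ.filter fun Q => m • Q = Q ∧ Q ∈ D.L B E ∧ Q ≠ B with hA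
  have hsplit : D.k - 1 = S.card + A.card := by
    have hd : Disjoint S A := by
      rw [Finset.disjoint_left]
      intro Q h1 h2
      exact (Finset.mem_filter.1 h1).2.2 (Finset.mem_filter.1 h2).2.2.1
    rw [← Finset.card_union_of_disjoint hd, ← T.ncard_fix hm hm1,
      ← Set.ncard_sdiff_singleton_of_mem (show B ∈ fixedBy Y m from T.smul_B hm),
      ← Set.ncard_coe_finset]
    congr 1
    ext Q
    simp only [Finset.coe_union, Set.mem_union, Finset.mem_coe, S, hA, Finset.mem_filter,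
      Finset.mem_univ, true_and, Set.mem_sdiff, mem_fixedBy, Set.mem_singleton_iff]
    constructor
    · rintro ⟨h1, h2⟩
      by_cases h : Q ∈ D.L B E
      · exact Or.inr ⟨h1, h, h2⟩
      · exact Or.inl ⟨h1, h⟩
    · rintro (⟨h1, h⟩ | ⟨h1, -, h2⟩)
      · exact ⟨h1, fun e => h (e ▸ D.left_mem B E)⟩
      · exact ⟨h1, h2⟩
  have hAsub : A ⊆ (Set.toFinite (D.L B E \ {B})).toFinset := fun Q hQ => by
    obtain ⟨-, h, h2⟩ := (Finset.mem_filter.1 hQ).2
    exact (Set.Finite.mem_toFinset _).2 ⟨h, h2⟩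
  have hAl : (Set.toFinite (D.L B E \ {B})).toFinset.card = l := by
    rw [← Set.ncard_eq_toFinset_card _, Set.ncard_sdiff_singleton_of_mem (D.left_mem B E), hgl]
  have hApos : 0 < A.card := Finset.card_pos.2 ⟨E, Finset.mem_filter.2
    ⟨Finset.mem_univ _, hmE, D.right_mem B E, hE.symm⟩⟩
  have hdvdA : l ∣ A.card := by
    have h := hdvd
    rw [hsplit] at h
    exact (Nat.dvd_add_right hdvdS).1 h
  have hAeq : A = (Set.toFinite (D.L B E \ {B})).toFinset :=
    Finset.eq_of_subset_of_card_le hAsub (by rw [hAl]; exact Nat.le_of_dvd hApos hdvdA)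
  rcases eq_or_ne F B with rfl | hFB
  · exact T.smul_B hm
  have : F ∈ A := by rw [hAeq]; exact (Set.Finite.mem_toFinset _).2 ⟨hF, hFB⟩
  exact (Finset.mem_filter.1 this).2.1

theorem U_fix {C F : Y} (hC : B ≠ C) {u : G} (hu : u ∈ T.M ⊓ stabilizer G C)
    (hF : F ∈ D.L B C) : u • F = F := by
  by_cases h : u = 1
  · rw [h, one_smul]
  · exact T.fix_line hu.1 h hC (mem_stabilizer_iff.1 hu.2) hF

theorem U_normal {C : Y} (hC : B ≠ C) {a u : G} (ha : a ∈ T.M) (hu : u ∈ T.M ⊓ stabilizer G C) :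
    a * u * a⁻¹ ∈ T.M ⊓ stabilizer G C := by
  refine ⟨T.M.mul_mem (T.M.mul_mem ha hu.1) (T.M.inv_mem ha), mem_stabilizer_iff.2 ?_⟩
  rw [mul_smul, mul_smul, T.U_fix hC hu (T.smul_line (T.M.inv_mem ha) (D.right_mem B C)),
    smul_inv_smul]

/-- The stabiliser in `M` of a second block is abelian. -/
theorem U_abelian {C : Y} (hC : B ≠ C) {x y : G} (hx : x ∈ T.M ⊓ stabilizer G C)
    (hy : y ∈ T.M ⊓ stabilizer G C) : x * y = y * x := by
  obtain ⟨g, hgB, hgC⟩ := is_two_pretransitive_iff.1 D.two hC hC.symm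
  obtain ⟨a, ha, haC⟩ := T.exists_moved hC
  have haB : a • B = B := T.smul_B ha
  set U := T.M ⊓ stabilizer G C with hU
  -- `g` carries `U` to the translations with axis `C` fixing `B`
  have hKC : ∀ m ∈ T.M, g * m * g⁻¹ ∈ D.Ker C := fun m hm => hgB ▸ D.conj_ker (T.le hm)
  have hMC : ∀ c : G, c • C = C → ∀ m ∈ T.M,
      g⁻¹ * (c * (g * m * g⁻¹) * c⁻¹) * g ∈ T.M := fun c hc m hm => by
    have hfix : (g⁻¹ * c * g) • B = B := by
      rw [mul_smul, mul_smul, hgB, hc, inv_smul_eq_iff, hgB]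
    simpa [mul_assoc] using T.normal (g⁻¹ * c * g) hfix m hm
  have hVB : ∀ u ∈ U, (g * u * g⁻¹) • B = B := fun u hu => by
    rw [mul_smul, mul_smul, inv_smul_eq_iff.2 hgC.symm, mem_stabilizer_iff.1 hu.2, hgC]
  have hVline : ∀ u ∈ U, ∀ F ∈ D.L B C, (g * u * g⁻¹) • F = F := fun u hu F hF => by
    have hF' : g⁻¹ • F ∈ D.L B C := by
      rw [← D.smul_mem_iff (g := g), smul_inv_smul, hgB, hgC, D.L_symm]
      exact hF
    rw [mul_smul, mul_smul, T.U_fix hC hu hF', smul_inv_smul]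
  have hcomm : ∀ z ∈ U, ∀ u ∈ U, z * (g * u * g⁻¹) = (g * u * g⁻¹) * z := by
    intro z hz u hu
    set v := g * u * g⁻¹ with hv
    have h1 : z * v * z⁻¹ * v⁻¹ ∈ T.M := by
      rw [show z * v * z⁻¹ * v⁻¹ = z * (v * z⁻¹ * v⁻¹) by group]
      exact T.M.mul_mem hz.1 (T.normal v (hVB u hu) _ (T.M.inv_mem hz.1))
    have h2 : z * v * z⁻¹ * v⁻¹ ∈ D.Ker C := by
      refine (D.Ker C).mul_mem ?_ ((D.Ker C).inv_mem (hKC u hu.1))
      simpa [hv, mem_stabilizer_iff.1 hz.2] using D.conj_ker (g := z) (hKC u hu.1)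
    have h := D.ker_inf hC (T.le h1) h2
    rwa [mul_inv_eq_one, mul_inv_eq_iff_eq_mul] at h
  have hphi : ∀ u ∈ U, a⁻¹ * (g * u * g⁻¹) * a * (g * u * g⁻¹)⁻¹ ∈ U := by
    intro u hu
    set v := g * u * g⁻¹ with hv
    refine ⟨?_, mem_stabilizer_iff.2 ?_⟩
    · rw [show a⁻¹ * v * a * v⁻¹ = a⁻¹ * (v * a * v⁻¹) by group]
      exact T.M.mul_mem (T.M.inv_mem ha) (T.normal v (hVB u hu) a ha)
    · rw [mul_smul, mul_smul, mul_smul, inv_smul_eq_iff.2 (hVline u hu C (D.right_mem B C)).symm,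
        hVline u hu _ (T.smul_line ha (D.right_mem B C)), inv_smul_smul]
  have hcentral : ∀ u ∈ U, ∀ z ∈ U,
      z * (a⁻¹ * (g * u * g⁻¹) * a * (g * u * g⁻¹)⁻¹) =
        (a⁻¹ * (g * u * g⁻¹) * a * (g * u * g⁻¹)⁻¹) * z := by
    intro u hu z hz
    set v := g * u * g⁻¹ with hv
    have e1 : z * v = v * z := hcomm z hz u hu
    have e2 : (a * z * a⁻¹) * v = v * (a * z * a⁻¹) := hcomm _ (T.U_normal hC ha hz) u hu
    have e3 : z * v⁻¹ = v⁻¹ * z := (Commute.inv_right e1).eq
    calc z * (a⁻¹ * v * a * v⁻¹) = a⁻¹ * ((a * z * a⁻¹) * v) * a * v⁻¹ := by group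
      _ = a⁻¹ * (v * (a * z * a⁻¹)) * a * v⁻¹ := by rw [e2]
      _ = a⁻¹ * v * a * (z * v⁻¹) := by group
      _ = a⁻¹ * v * a * (v⁻¹ * z) := by rw [e3]
      _ = _ := by group
  let φ : ↥U → ↥U := fun u => ⟨_, hphi u u.2⟩
  have hinj : Function.Injective φ := by
    intro u u' e
    have e' : a⁻¹ * (g * u * g⁻¹) * a * (g * u * g⁻¹)⁻¹ =
        a⁻¹ * (g * u' * g⁻¹) * a * (g * u' * g⁻¹)⁻¹ := congrArg Subtype.val e
    set v := g * (u : G) * g⁻¹ with hv
    set v' := g * (u' : G) * g⁻¹ with hv'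
    have hwa : a⁻¹ * (v'⁻¹ * v) * a = v'⁻¹ * v := by
      have e4 : a⁻¹ * v * a = a⁻¹ * v' * a * v'⁻¹ * v := by
        rw [← e', inv_mul_cancel_right]
      calc a⁻¹ * (v'⁻¹ * v) * a = (a⁻¹ * v' * a)⁻¹ * (a⁻¹ * v * a) := by group
        _ = v'⁻¹ * v := by rw [e4]; group
    have hw : v'⁻¹ * v ∈ D.Ker C :=
      (D.Ker C).mul_mem ((D.Ker C).inv_mem (hKC u' u'.2.1)) (hKC u u.2.1)
    have hw2 := D.conj_ker (g := a⁻¹) hw
    rw [inv_inv, hwa] at hw2
    have hne : C ≠ a⁻¹ • C := fun h => haC (eq_inv_smul_iff.1 h)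
    have h := D.ker_inf hne hw hw2
    rw [inv_mul_eq_one, hv, hv'] at h
    exact Subtype.ext (mul_left_cancel (mul_right_cancel h)).symm
  obtain ⟨⟨u, hu⟩, hux⟩ := (Finite.injective_iff_surjective.1 hinj) ⟨y, hy⟩
  have hy' : a⁻¹ * (g * u * g⁻¹) * a * (g * u * g⁻¹)⁻¹ = y := congrArg Subtype.val hux
  rw [← hy']
  exact hcentral u hu x hx

end Trans

end Cfsg.Agent.ONanElation
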